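import Cfsg.Agent.H957.TL.CoreOf

/-!
# Theorem L, conjugation (helper957)
-/

set_option autoImplicit false
set_option linter.unusedSectionVars false

namespace Cfsg.Agent.H957.TL

open Matrix Polynomial

variable {F : Type*} [Field F]

section

variable {m n : Type*} [Fintype m] [DecidableEq m] [Fintype n] [DecidableEq n]

theorem card_eq_of_inv {P : Matrix m n F} {P' : Matrix n m F} (h1 : P * P' = 1) (h2 : P' * P = 1) :
    Fintype.card m = Fintype.card n := by
  have e : (m → F) ≃ₗ[F] (n → F) :=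
    { toLinearMap := Matrix.mulVecLin P'
      invFun := fun v => P *ᵥ v
      left_inv := fun v => by
        show P *ᵥ (P' *ᵥ v) = v
        rw [mulVec_mulVec, h1, one_mulVec]
      right_inv := fun v => by
        show P' *ᵥ (P *ᵥ v) = v
        rw [mulVec_mulVec, h2, one_mulVec] }
  have := e.finrank_eq
  rwa [Module.finrank_fintype_fun_eq_card, Module.finrank_fintype_fun_eq_card] at this

theorem charpoly_conj {P : Matrix m n F} {P' : Matrix n m F} (h1 : P * P' = 1) (h2 : P' * P = 1) (M : Matrix n n F) :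
    (P * M * P').charpoly = M.charpoly := by
  have hc := card_eq_of_inv h1 h2
  have h := charpoly_mul_comm' P (M * P')
  rw [Matrix.mul_assoc M, h2, Matrix.mul_one, hc, ← Matrix.mul_assoc] at h
  exact mul_left_cancel₀ (pow_ne_zero _ X_ne_zero) h

/-- the conclusion of Theorem L for `A`, `f`, `g` -/
def Fac (A : Matrix m m F) (f g : F[X]) : Prop :=
  ∃ M N : Matrix m m F, M * N = A ∧ M.charpoly = f ∧ N.charpoly = g

/-- transfer along a change of basis (of index types) -/
theorem Fac.transfer {A : Matrix m m F} {A' : Matrix n n F} {P : Matrix m n F} {P' : Matrix n m F} {f g : F[X]}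
    (h : Fac A' f g) (h1 : P * P' = 1) (h2 : P' * P = 1) (hA : P' * A * P = A') : Fac A f g := by
  obtain ⟨M, N, hMN, hM, hN⟩ := h
  refine ⟨P * M * P', P * N * P', ?_, ?_, ?_⟩
  · have e : P * M * P' * (P * N * P') = P * (M * N) * P' := by
      rw [← Matrix.mul_assoc, ← Matrix.mul_assoc, Matrix.mul_assoc (P * M), h2, Matrix.mul_one, ← Matrix.mul_assoc]
    rw [e, hMN, ← hA]
    have e2 : P * (P' * A * P) * P' = (P * P') * A * (P * P') := by
      simp only [Matrix.mul_assoc]
    rw [e2, h1, Matrix.one_mul, Matrix.mul_one]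
  · rw [charpoly_conj h1 h2, hM]
  · rw [charpoly_conj h1 h2, hN]

end

section

variable {k r : ℕ}

/-- the block triangular matrix is similar to the block diagonal one when `Q = B S - S E` -/
theorem Fac.unblock {B : Matrix (Fin k) (Fin k) F} {E : Matrix (Fin r) (Fin r) F} {Q S : Matrix (Fin k) (Fin r) F}
    (hS : B * S - S * E = Q) {f g : F[X]} (h : Fac (fromBlocks B Q 0 E) f g) : Fac (fromBlocks B 0 0 E) f g := by
  refine h.transfer (P := fromBlocks 1 S 0 1) (P' := fromBlocks 1 (-S) 0 1) ?_ ?_ ?_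
  · rw [fromBlocks_multiply]
    simp
  · rw [fromBlocks_multiply]
    simp
  · rw [fromBlocks_multiply, fromBlocks_multiply, ← hS]
    simp [sub_eq_add_neg]

/-- Theorem L for `B ⊕ E` when the Sylvester equation of `(B, E)` is solvable (all `f`, `g`, all `q`) -/
theorem fac_blocks [Finite F] {B : Matrix (Fin (k + 1)) (Fin (k + 1)) F} {E : Matrix (Fin (r + 1)) (Fin (r + 1)) F}
    (hS : ∀ Q : Matrix (Fin (k + 1)) (Fin (r + 1)) F, ∃ S : Matrix (Fin (k + 1)) (Fin (r + 1)) F, B * S - S * E = Q)
    (hB : B.det ≠ 0) (hE : E.det ≠ 0) {f g : F[X]} (hf : f.Monic) (hg : g.Monic)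
    (hfn : f.natDegree = (k + 1) + (r + 1)) (hgn : g.natDegree = (k + 1) + (r + 1))
    (h0 : f.coeff 0 * g.coeff 0 = B.det * E.det) : Fac (fromBlocks B 0 0 E) f g := by
  obtain ⟨m, n, G, hm, hn, hm', hn', hG, h⟩ := core hB hE hf hg hfn hgn h0
  obtain ⟨Q, hQ⟩ := span_mul m n hm hm' hn hn' (by omega) (by omega) (G := G) (by
    have e1 : (k + 1) + (r + 1) - 1 = k + r + 1 := by omega
    rwa [e1])
  obtain ⟨S, hS'⟩ := hS Q
  exact Fac.unblock hS' (h Q hQ)

end

end Cfsg.Agent.H957.TL
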