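import Cfsg.Agent.H642.TL.FindE

/-!
# Theorem L: block forms of homogeneous matrices (helper957, on helper642's `FindE`)
-/

set_option autoImplicit false
set_option linter.unusedSectionVars false

namespace Cfsg.Agent.H957.TL

open Matrix Polynomial Module Cfsg.Agent.H642.TL

variable {F : Type*} [Field F]

theorem toLin_aeval {n : ℕ} (A : Matrix (Fin n) (Fin n) F) (f : F[X]) :
    Matrix.toLin' (aeval A f) = aeval (Matrix.toLin' A) f := by
  have e2 : Matrix.toLin' A = (Matrix.toLinAlgEquiv' : Matrix (Fin n) (Fin n) F ≃ₐ[F] _).toAlgHom A := rfl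
  rw [e2, aeval_algHom_apply]
  rfl

/-- if `p(A)² ≠ 0` and `p(A)` is not surjective -/
theorem exists_block_sq {n : ℕ} (A : Matrix (Fin n) (Fin n) F) (p : F[X]) (hp : Irreducible p)
    (hp1 : p.Monic) (hUt : LinearMap.range (Matrix.toLin' (aeval A p)) ≠ ⊤)
    (hsq : aeval A p * aeval A p ≠ 0) :
    ∃ (s : ℕ) (A1 : Matrix (Fin s) (Fin s) F) (A2 : Matrix (Fin p.natDegree) (Fin p.natDegree) F)
      (Ps : Matrix (Fin s) (Fin p.natDegree) F) (P : Matrix (Fin n) (Fin s ⊕ Fin p.natDegree) F)
      (P' : Matrix (Fin s ⊕ Fin p.natDegree) (Fin n) F), 0 < s ∧ s + p.natDegree = n ∧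
      P * P' = 1 ∧ P' * P = 1 ∧ P' * A * P = fromBlocks A1 Ps 0 A2 ∧ A2.charpoly = p ∧ aeval A1 p ≠ 0 := by
  obtain ⟨a, ha⟩ : ∃ a : Module.End F (Fin n → F), a = Matrix.toLin' A := ⟨_, rfl⟩
  have hap : ∀ f : F[X], Matrix.toLin' (aeval A f) = aeval a f := fun f => by rw [ha]; exact toLin_aeval A f
  obtain ⟨v, hv⟩ : ∃ v, toLin' (aeval A p) (toLin' (aeval A p) v) ≠ 0 := by
    by_contra h
    push Not at h
    apply hsq
    apply Matrix.toLin'.injective
    rw [map_zero, Matrix.toLin'_mul]
    exact LinearMap.ext h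
  rw [hap] at hUt
  obtain ⟨E, hUE, hE, hdim⟩ := exists_max a hp hp1 (LinearMap.range (aeval a p)) (by
    rintro _ ⟨x, rfl⟩
    refine ⟨a x, ?_⟩
    have := aeval_comm a p X x
    rwa [aeval_X] at this) hUt (fun x => ⟨x, rfl⟩)
  obtain ⟨s, A1, A2, Ps, P, P', h1, h2, h3, h4, h5, h6⟩ := block_of A hp hp1 E
    (fun x hx => by rw [← ha]; exact hE x hx)
    (fun x => by rw [hap]; exact hUE ⟨x, rfl⟩) hdim
  have h7 := h6 ⟨toLin' (aeval A p) v, by rw [hap]; exact hUE ⟨v, rfl⟩, hv⟩
  refine ⟨s, A1, A2, Ps, P, P', ?_, h1, h2, h3, h4, h5, h7⟩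
  rcases Nat.eq_zero_or_pos s with rfl | h
  · exact absurd (Subsingleton.elim _ _) h7
  · exact h

/-- **Every homogeneous nonsemisimple matrix has a block form with `p(A₁) ≠ 0`, unless `n = 2 deg p`.** -/
theorem exists_block_all {n : ℕ} (A : Matrix (Fin n) (Fin n) F) (p : F[X]) (hp : Irreducible p)
    (hp1 : p.Monic) {m : ℕ} (hA : A.charpoly = p ^ m) (hne : aeval A p ≠ 0) (hn : n ≠ 2 * p.natDegree) :
    ∃ (s : ℕ) (A1 : Matrix (Fin s) (Fin s) F) (A2 : Matrix (Fin p.natDegree) (Fin p.natDegree) F)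
      (Ps : Matrix (Fin s) (Fin p.natDegree) F) (P : Matrix (Fin n) (Fin s ⊕ Fin p.natDegree) F)
      (P' : Matrix (Fin s ⊕ Fin p.natDegree) (Fin n) F), 0 < s ∧ s + p.natDegree = n ∧
      P * P' = 1 ∧ P' * P = 1 ∧ P' * A * P = fromBlocks A1 Ps 0 A2 ∧ A2.charpoly = p ∧ aeval A1 p ≠ 0 := by
  have hCH : aeval A (p ^ m) = 0 := by rw [← hA]; exact Matrix.aeval_self_charpoly A
  have hnm : n = m * p.natDegree := by
    have := congrArg Polynomial.natDegree hA
    rwa [hp1.natDegree_pow, Matrix.charpoly_natDegree_eq_dim, Fintype.card_fin] at this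
  have hm2 : 2 ≤ m := by
    by_contra h
    push Not at h
    interval_cases m
    · rw [zero_mul] at hnm
      subst hnm
      exact hne (Subsingleton.elim _ _)
    · rw [pow_one] at hCH
      exact hne hCH
  by_cases hsq : aeval A p * aeval A p = 0
  · apply exists_block A p hp hp1 _ hne
    have h1 : LinearMap.range (Matrix.toLin' (aeval A p)) ≤ LinearMap.ker (Matrix.toLin' (aeval A p)) := by
      rintro _ ⟨x, rfl⟩
      rw [LinearMap.mem_ker, ← LinearMap.comp_apply, ← Matrix.toLin'_mul, hsq, map_zero, LinearMap.zero_apply]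
    have h2 := Submodule.finrank_mono h1
    have h3 := LinearMap.finrank_range_add_finrank_ker (Matrix.toLin' (aeval A p))
    rw [Module.finrank_fin_fun] at h3
    by_contra h
    push Not at h
    apply hn
    have h4 : n ≤ 2 * p.natDegree := by omega
    have h5 := Nat.mul_le_mul_right p.natDegree hm2
    omega
  · apply exists_block_sq A p hp hp1 _ hsq
    intro htop
    have hsurj : Function.Surjective (Matrix.toLin' (aeval A p)) := LinearMap.range_eq_top.1 htop
    have hinj : Function.Injective (Matrix.toLin' (aeval A p)) := LinearMap.injective_iff_surjective.2 hsurj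
    have hpow : ∀ k : ℕ, ∀ x, Matrix.toLin' (aeval A (p ^ k)) x = 0 → x = 0 := by
      intro k
      induction k with
      | zero =>
        intro x hx
        rwa [pow_zero, map_one, Matrix.toLin'_one, LinearMap.id_apply] at hx
      | succ k ih =>
        intro x hx
        rw [pow_succ', map_mul, Matrix.toLin'_mul, LinearMap.comp_apply] at hx
        exact ih x (hinj (by rw [hx, map_zero]))
    apply hne
    apply Matrix.toLin'.injective
    rw [map_zero]
    apply LinearMap.ext
    intro x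
    have h1 : x = 0 := hpow m x (by rw [hCH, map_zero, LinearMap.zero_apply])
    rw [h1, map_zero, map_zero]

end Cfsg.Agent.H957.TL
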