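import Mathlib

/-!
# The last row of the adjugate of `X J - B` (helper957, Theorem L)
-/

set_option autoImplicit false

namespace Cfsg.Agent.H957.TL

open Matrix Polynomial

variable {F : Type*} [Field F] {k : ℕ}

/-- the pencil `X J - B` -/
noncomputable def pen (J B : Matrix (Fin k) (Fin k) F) : Matrix (Fin k) (Fin k) F[X] :=
  (X : F[X]) • J.map C + (-B).map C

theorem pen_mulVec (J B : Matrix (Fin k) (Fin k) F) (v : Fin k → F) :
    pen J B *ᵥ (C ∘ v) = (X : F[X]) • (C ∘ (J *ᵥ v)) - C ∘ (B *ᵥ v) := by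
  have h3 : ∀ M : Matrix (Fin k) (Fin k) F, M.map C *ᵥ (C ∘ v) = C ∘ (M *ᵥ v) := by
    intro M
    funext i
    exact (RingHom.map_mulVec C M v i).symm
  rw [pen, add_mulVec, smul_mulVec, h3, h3, neg_mulVec]
  funext i
  simp [sub_eq_add_neg]

theorem det_pen_coeff (J B : Matrix (Fin k) (Fin k) F) : (pen J B).det.coeff 0 = (-B).det :=
  coeff_det_X_add_C_zero J (-B)

/-- the entries of the adjugate have degree `< k` -/
theorem adjugate_mem (J B : Matrix (Fin k) (Fin k) F) (i j : Fin k) : (pen J B).adjugate i j ∈ degreeLT F k := by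
  have e : (pen J B).adjugate i j =
      det ((X : F[X]) • (J.updateRow j 0).map C + ((-B).updateRow j (Pi.single i 1)).map C) := by
    rw [adjugate_apply, pen]
    congr 1
    ext a b
    by_cases h : a = j
    · subst h
      simp only [updateRow_self, Matrix.add_apply, Matrix.smul_apply, Matrix.map_apply, Pi.zero_apply, map_zero,
        smul_zero, zero_add]
      by_cases h2 : b = i
      · subst h2; simp
      · simp [Pi.single_eq_of_ne h2]
    · simp [updateRow_ne h]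
  rw [e, mem_degreeLT]
  have h1 := natDegree_det_X_add_C_le (J.updateRow j 0) ((-B).updateRow j (Pi.single i 1))
  have h2 := coeff_det_X_add_C_card (J.updateRow j 0) ((-B).updateRow j (Pi.single i 1))
  rw [Fintype.card_fin] at h1 h2
  have h3 : (J.updateRow j 0).det = 0 := det_eq_zero_of_row_eq_zero j (fun b => by simp)
  rw [h3] at h2
  set p := det ((X : F[X]) • (J.updateRow j 0).map C + ((-B).updateRow j (Pi.single i 1)).map C) with hp
  rcases eq_or_ne p 0 with h0 | h0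
  · rw [h0, degree_zero]
    exact WithBot.bot_lt_coe k
  · rw [degree_eq_natDegree h0]
    have h4 : p.natDegree ≠ k := by
      intro h5
      apply h0
      rw [← leadingCoeff_eq_zero, leadingCoeff, h5, h2]
    exact_mod_cast lt_of_le_of_ne h1 h4

/-- the row `ε adj (X J - B)` -/
noncomputable def row (eps : Fin k → F) (J B : Matrix (Fin k) (Fin k) F) : Fin k → F[X] :=
  (C ∘ eps) ᵥ* (pen J B).adjugate

theorem row_mem (eps : Fin k → F) (J B : Matrix (Fin k) (Fin k) F) (i : Fin k) : row eps J B i ∈ degreeLT F k := by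
  rw [row, vecMul, dotProduct]
  refine Submodule.sum_mem _ fun j _ => ?_
  rw [Function.comp_apply, ← smul_eq_C_mul]
  exact Submodule.smul_mem _ _ (adjugate_mem J B j i)

/-- the pair `(T, ε)` is observable -/
def Obs (T : Matrix (Fin k) (Fin k) F) (eps : Fin k → F) : Prop :=
  ∀ v : Fin k → F, (∀ i : ℕ, eps ⬝ᵥ ((T ^ i) *ᵥ v) = 0) → v = 0

theorem row_indep {eps : Fin k → F} {J B : Matrix (Fin k) (Fin k) F} (hB : B.det ≠ 0) (hobs : Obs (B⁻¹ * J) eps) :
    LinearIndependent F (row eps J B) := by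
  rw [Fintype.linearIndependent_iff]
  intro c hc
  have hB' : IsUnit B.det := isUnit_iff_ne_zero.2 hB
  have hc' : (C ∘ eps) ⬝ᵥ ((pen J B).adjugate *ᵥ (C ∘ c)) = 0 := by
    rw [dotProduct_mulVec, dotProduct, ← hc]
    refine Finset.sum_congr rfl fun i _ => ?_
    rw [smul_eq_C_mul, mul_comm]
    rfl
  let v : ℕ → Fin k → F := fun i => (B⁻¹ * J) ^ i *ᵥ (B⁻¹ *ᵥ c)
  have hv0 : B *ᵥ v 0 = c := by
    show B *ᵥ ((B⁻¹ * J) ^ 0 *ᵥ (B⁻¹ *ᵥ c)) = c
    rw [pow_zero, one_mulVec, mulVec_mulVec, mul_nonsing_inv _ hB', one_mulVec]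
  have hvs : ∀ i, B *ᵥ v (i + 1) = J *ᵥ v i := by
    intro i
    show B *ᵥ ((B⁻¹ * J) ^ (i + 1) *ᵥ (B⁻¹ *ᵥ c)) = J *ᵥ ((B⁻¹ * J) ^ i *ᵥ (B⁻¹ *ᵥ c))
    rw [pow_succ', ← mulVec_mulVec, ← mulVec_mulVec, mulVec_mulVec (M := B), mul_nonsing_inv _ hB', one_mulVec]
  let P : ℕ → Fin k → F[X] := fun N => ∑ i ∈ Finset.range N, (X : F[X]) ^ i • (C ∘ v i)
  have hP : ∀ N, pen J B *ᵥ P N = -(C ∘ c) + (X : F[X]) ^ N • (C ∘ (B *ᵥ v N)) := by
    intro N
    induction N with
    | zero =>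
      show pen J B *ᵥ (∑ i ∈ Finset.range 0, (X : F[X]) ^ i • (C ∘ v i)) = _
      rw [Finset.range_zero, Finset.sum_empty, mulVec_zero, hv0, pow_zero, one_smul, neg_add_cancel]
    | succ N ih =>
      show pen J B *ᵥ (∑ i ∈ Finset.range (N + 1), (X : F[X]) ^ i • (C ∘ v i)) = _
      rw [Finset.sum_range_succ, mulVec_add]
      have ih' : pen J B *ᵥ (∑ i ∈ Finset.range N, (X : F[X]) ^ i • (C ∘ v i)) = _ := ih
      rw [ih', mulVec_smul, pen_mulVec, hvs, smul_sub, smul_smul, ← pow_succ]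
      abel
  have key : ∀ N, (X : F[X]) ^ N ∣ (pen J B).det * ((C ∘ eps) ⬝ᵥ P N) := by
    intro N
    have h1 : (pen J B).adjugate *ᵥ (pen J B *ᵥ P N) = (pen J B).det • P N := by
      rw [mulVec_mulVec, adjugate_mul, smul_mulVec, one_mulVec]
    rw [hP, mulVec_add, mulVec_neg, mulVec_smul] at h1
    have h2 := congrArg (fun w => (C ∘ eps) ⬝ᵥ w) h1
    simp only [dotProduct_add, dotProduct_neg, dotProduct_smul, smul_eq_mul, hc', neg_zero, zero_add] at h2
    exact ⟨_, h2.symm⟩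
  have h0 : B⁻¹ *ᵥ c = 0 := by
    apply hobs
    intro i
    have h1 := key (i + 1)
    have h2 : IsCoprime ((X : F[X]) ^ (i + 1)) (pen J B).det := by
      apply IsCoprime.pow_left
      rw [(Polynomial.prime_X (R := F)).irreducible.coprime_iff_not_dvd, X_dvd_iff, det_pen_coeff, det_neg]
      exact mul_ne_zero (pow_ne_zero _ (neg_ne_zero.2 one_ne_zero)) hB
    have h3 := h2.dvd_of_dvd_mul_left h1
    rw [X_pow_dvd_iff] at h3
    have h4 := h3 i (Nat.lt_succ_self i)
    have h5 : (C ∘ eps) ⬝ᵥ P (i + 1) = ∑ l ∈ Finset.range (i + 1), C (eps ⬝ᵥ v l) * (X : F[X]) ^ l := by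
      show (C ∘ eps) ⬝ᵥ (∑ l ∈ Finset.range (i + 1), (X : F[X]) ^ l • (C ∘ v l)) = _
      rw [dotProduct_sum]
      refine Finset.sum_congr rfl fun l _ => ?_
      rw [dotProduct_smul, smul_eq_mul, mul_comm, RingHom.map_dotProduct]
    rw [h5, finsetSum_coeff] at h4
    simp only [coeff_C_mul, coeff_X_pow] at h4
    rw [Finset.sum_eq_single i] at h4
    · rw [if_pos rfl, mul_one] at h4
      exact h4
    · intro b _ hb
      rw [if_neg (fun h => hb h.symm), mul_zero]
    · intro h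
      exact absurd (Finset.mem_range.2 (Nat.lt_succ_self i)) h
  have h1 : c = 0 := by
    have h2 := congrArg (fun w => B *ᵥ w) h0
    simp only [mulVec_mulVec, mul_nonsing_inv _ hB', one_mulVec, mulVec_zero] at h2
    exact h2
  intro i
  rw [h1]
  rfl

end Cfsg.Agent.H957.TL
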