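import Mathlib

/-!
# Products of two bases of polynomials span (helper957, Theorem L)
-/

set_option autoImplicit false

namespace Cfsg.Agent.H957.TL

open Polynomial

variable {F : Type*} [Field F]

/-- `k` independent polynomials of degree `< k` span. -/
theorem exists_comb {k : ℕ} (m : Fin k → F[X]) (hm : LinearIndependent F m) (hm' : ∀ i, m i ∈ degreeLT F k)
    {p : F[X]} (hp : p ∈ degreeLT F k) : ∃ a : Fin k → F, ∑ i, a i • m i = p := by
  let m' : Fin k → degreeLT F k := fun i => ⟨m i, hm' i⟩
  have h1 : LinearIndependent F m' := by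
    apply LinearIndependent.of_comp (degreeLT F k).subtype
    exact hm
  have := Module.Finite.equiv (degreeLTEquiv F k).symm
  have h2 : Module.finrank F (degreeLT F k) = k := by
    rw [(degreeLTEquiv F k).finrank_eq, Module.finrank_fin_fun]
  have h3 : Submodule.span F (Set.range m') = ⊤ := h1.span_eq_top_of_card_eq_finrank' (by rw [Fintype.card_fin, h2])
  have h4 : (⟨p, hp⟩ : degreeLT F k) ∈ Submodule.span F (Set.range m') := by rw [h3]; trivial
  rw [Submodule.mem_span_range_iff_exists_fun] at h4
  obtain ⟨a, ha⟩ := h4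
  refine ⟨a, ?_⟩
  have h5 := congrArg (degreeLT F k).subtype ha
  rw [map_sum] at h5
  exact h5

theorem span_mul {k r : ℕ} (m : Fin k → F[X]) (n : Fin r → F[X])
    (hm : LinearIndependent F m) (hm' : ∀ i, m i ∈ degreeLT F k)
    (hn : LinearIndependent F n) (hn' : ∀ j, n j ∈ degreeLT F r)
    {G : F[X]} (hk : 0 < k) (hr : 0 < r) (hG : G ∈ degreeLT F (k + r - 1)) :
    ∃ Q : Matrix (Fin k) (Fin r) F, ∑ i, ∑ j, Q i j • (m i * n j) = G := by
  classical
  let Φ : Matrix (Fin k) (Fin r) F →ₗ[F] F[X] :=
    { toFun := fun Q => ∑ i, ∑ j, Q i j • (m i * n j)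
      map_add' := by
        intro Q Q'
        rw [← Finset.sum_add_distrib]
        refine Finset.sum_congr rfl fun i _ => ?_
        rw [← Finset.sum_add_distrib]
        exact Finset.sum_congr rfl fun j _ => add_smul _ _ _
      map_smul' := by
        intro c Q
        rw [Finset.smul_sum]
        refine Finset.sum_congr rfl fun i _ => ?_
        rw [Finset.smul_sum]
        exact Finset.sum_congr rfl fun j _ => mul_smul _ _ _ }
  have h1 : degreeLT F (k + r - 1) ≤ LinearMap.range Φ := by
    rw [degreeLT_eq_span_X_pow, Submodule.span_le]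
    intro p hp
    simp only [Finset.coe_image, Finset.coe_range, Set.mem_image, Set.mem_Iio] at hp
    obtain ⟨d, hd, rfl⟩ := hp
    have ha : (X : F[X]) ^ (min d (k - 1)) ∈ degreeLT F k := by
      rw [mem_degreeLT, degree_X_pow]
      exact_mod_cast (by omega : min d (k - 1) < k)
    have hb : (X : F[X]) ^ (d - min d (k - 1)) ∈ degreeLT F r := by
      rw [mem_degreeLT, degree_X_pow]
      exact_mod_cast (by omega : d - min d (k - 1) < r)
    obtain ⟨a, ha'⟩ := exists_comb m hm hm' ha
    obtain ⟨b, hb'⟩ := exists_comb n hn hn' hb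
    refine ⟨fun i j => a i * b j, ?_⟩
    show ∑ i, ∑ j, (a i * b j) • (m i * n j) = X ^ d
    have e : (X : F[X]) ^ d = X ^ (min d (k - 1)) * X ^ (d - min d (k - 1)) := by
      rw [← pow_add]
      congr 1
      omega
    rw [e, ← ha', ← hb', Finset.sum_mul_sum]
    refine Finset.sum_congr rfl fun i _ => Finset.sum_congr rfl fun j _ => ?_
    rw [smul_mul_smul_comm]
  obtain ⟨Q, hQ⟩ := h1 hG
  exact ⟨Q, hQ⟩

end Cfsg.Agent.H957.TL
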