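import Mathlib

/-!
# Block determinants with a lower left block of rank one (helper957, Theorem L)
-/

set_option autoImplicit false

namespace Cfsg.Agent.H957.TL

open Matrix Polynomial

section Det

variable {m n : Type*} [Fintype m] [DecidableEq m] [Fintype n] [DecidableEq n]

theorem det_rank1_field {K : Type*} [Field K] (P : Matrix m m K) (U : Matrix m n K) (S : Matrix n n K) (c : K)
    (e : n → K) (eps : m → K) (hP : P.det ≠ 0) (hS : S.det ≠ 0) :
    (fromBlocks P U (c • vecMulVec e eps) S).det =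
      P.det * S.det - c * (eps ⬝ᵥ (P.adjugate *ᵥ (U *ᵥ (S.adjugate *ᵥ e)))) := by
  have hS' : IsUnit S.det := isUnit_iff_ne_zero.2 hS
  have hP' : IsUnit P.det := isUnit_iff_ne_zero.2 hP
  have := invertibleOfIsUnitDet S hS'
  rw [det_fromBlocks₂₂]
  have h1 : P - U * ⅟S * (c • vecMulVec e eps) =
      P + replicateCol Unit (-(c • (U *ᵥ (S⁻¹ *ᵥ e)))) * replicateRow Unit eps := by
    rw [sub_eq_add_neg, invOf_eq_nonsing_inv, Matrix.mul_smul, ← vecMulVec_eq Unit]
    congr 1
    rw [Matrix.mul_assoc, Matrix.mul_vecMulVec, Matrix.mul_vecMulVec]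
    ext i j
    simp [vecMulVec, mul_assoc]
  rw [h1, det_add_replicateCol_mul_replicateRow hP']
  have h2 : (1 + replicateRow Unit eps * P⁻¹ * replicateCol Unit (-(c • (U *ᵥ (S⁻¹ *ᵥ e))))).det =
      1 - c * (eps ⬝ᵥ (P⁻¹ *ᵥ (U *ᵥ (S⁻¹ *ᵥ e)))) := by
    rw [det_unique, Matrix.add_apply, Matrix.one_apply_eq, sub_eq_add_neg, Matrix.mul_assoc,
      ← Matrix.replicateCol_mulVec, Matrix.replicateRow_mul_replicateCol_apply, mulVec_neg, dotProduct_neg,
      mulVec_smul, dotProduct_smul, smul_eq_mul]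
  rw [h2]
  have h3 : ∀ v : n → K, S.det • (S⁻¹ *ᵥ v) = S.adjugate *ᵥ v := by
    intro v
    rw [inv_def, smul_mulVec, smul_smul, Ring.inverse_eq_inv', mul_inv_cancel₀ hS, one_smul]
  have h4 : ∀ v : m → K, P.det • (P⁻¹ *ᵥ v) = P.adjugate *ᵥ v := by
    intro v
    rw [inv_def, smul_mulVec, smul_smul, Ring.inverse_eq_inv', mul_inv_cancel₀ hP, one_smul]
  rw [← h3, ← h4, mulVec_smul, mulVec_smul, smul_smul, dotProduct_smul, smul_eq_mul]
  ring

theorem map_mulVec' {R S : Type*} [CommRing R] [CommRing S] (φ : R →+* S) {a b : Type*} [Fintype b] (M : Matrix a b R)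
    (v : b → R) : M.map φ *ᵥ (φ ∘ v) = φ ∘ (M *ᵥ v) := by
  funext i
  exact (RingHom.map_mulVec φ M v i).symm

theorem det_rank1 {R : Type*} [CommRing R] [IsDomain R] (P : Matrix m m R) (U : Matrix m n R) (S : Matrix n n R) (c : R)
    (e : n → R) (eps : m → R) (hP : P.det ≠ 0) (hS : S.det ≠ 0) :
    (fromBlocks P U (c • vecMulVec e eps) S).det =
      P.det * S.det - c * (eps ⬝ᵥ (P.adjugate *ᵥ (U *ᵥ (S.adjugate *ᵥ e)))) := by
  let φ := algebraMap R (FractionRing R)
  have hφ : Function.Injective φ := IsFractionRing.injective R (FractionRing R)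
  apply hφ
  have hP' : (P.map φ).det ≠ 0 := by
    rw [← RingHom.mapMatrix_apply, ← RingHom.map_det]
    exact fun h => hP (hφ (by rw [h, map_zero]))
  have hS' : (S.map φ).det ≠ 0 := by
    rw [← RingHom.mapMatrix_apply, ← RingHom.map_det]
    exact fun h => hS (hφ (by rw [h, map_zero]))
  have h1 := det_rank1_field (P.map φ) (U.map φ) (S.map φ) (φ c) (φ ∘ e) (φ ∘ eps) hP' hS'
  have h2 : fromBlocks (P.map φ) (U.map φ) (φ c • vecMulVec (φ ∘ e) (φ ∘ eps)) (S.map φ) =
      φ.mapMatrix (fromBlocks P U (c • vecMulVec e eps) S) := by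
    rw [RingHom.mapMatrix_apply, fromBlocks_map]
    congr 1
    ext i j
    simp [vecMulVec]
  rw [h2, ← RingHom.map_det] at h1
  rw [h1, map_sub, map_mul, map_mul, RingHom.map_det, RingHom.map_det, RingHom.mapMatrix_apply,
    RingHom.mapMatrix_apply]
  congr 2
  rw [← RingHom.mapMatrix_apply, ← RingHom.map_adjugate, RingHom.mapMatrix_apply, ← RingHom.mapMatrix_apply (M := S),
    ← RingHom.map_adjugate, RingHom.mapMatrix_apply, map_mulVec', map_mulVec',
    map_mulVec', RingHom.map_dotProduct]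

end Det

end Cfsg.Agent.H957.TL
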