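import Cfsg.Agent.H957.TL.Glue
import Cfsg.Agent.H236.TL.Split

/-!
# Theorem L, the coprime case (helper957)
-/

set_option autoImplicit false
set_option linter.unusedSectionVars false

namespace Cfsg.Agent.H957.TL

open Matrix Polynomial

variable {F : Type*} [Field F]

theorem aeval_intertwine {k r : ℕ} {B : Matrix (Fin k) (Fin k) F} {E : Matrix (Fin r) (Fin r) F}
    {S : Matrix (Fin k) (Fin r) F} (h : B * S = S * E) (p : F[X]) : aeval B p * S = S * aeval E p := by
  have hpow : ∀ n : ℕ, B ^ n * S = S * E ^ n := by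
    intro n
    induction n with
    | zero => rw [pow_zero, pow_zero, Matrix.one_mul, Matrix.mul_one]
    | succ n ih => rw [pow_succ', pow_succ', Matrix.mul_assoc, ih, ← Matrix.mul_assoc, h, Matrix.mul_assoc]
  induction p using Polynomial.induction_on' with
  | add p q hp hq => rw [map_add, map_add, Matrix.add_mul, Matrix.mul_add, hp, hq]
  | monomial n c =>
    rw [aeval_monomial, aeval_monomial, Algebra.algebraMap_eq_smul_one, Algebra.algebraMap_eq_smul_one, smul_mul_assoc,
      one_mul, Matrix.smul_mul, hpow, smul_mul_assoc, one_mul, Matrix.mul_smul]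

/-- the Sylvester equation -/
theorem sylvester {k r : ℕ} (B : Matrix (Fin k) (Fin k) F) (E : Matrix (Fin r) (Fin r) F)
    (h : IsCoprime B.charpoly E.charpoly) (Q : Matrix (Fin k) (Fin r) F) :
    ∃ S : Matrix (Fin k) (Fin r) F, B * S - S * E = Q := by
  let Φ : Matrix (Fin k) (Fin r) F →ₗ[F] Matrix (Fin k) (Fin r) F :=
    { toFun := fun S => B * S - S * E
      map_add' := fun S S' => by
        rw [Matrix.mul_add, Matrix.add_mul]
        abel
      map_smul' := fun c S => by
        rw [Matrix.mul_smul, Matrix.smul_mul, RingHom.id_apply, smul_sub] }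
  have hinj : Function.Injective Φ := by
    rw [injective_iff_map_eq_zero]
    intro S hS
    have h1 : B * S = S * E := sub_eq_zero.1 hS
    have h2 := aeval_intertwine h1 B.charpoly
    rw [aeval_self_charpoly, Matrix.zero_mul] at h2
    obtain ⟨a, b, hab⟩ := h
    have h3 := congrArg (aeval E) hab
    rw [map_add, map_mul, map_mul, aeval_self_charpoly, mul_zero, add_zero, map_one] at h3
    have h4 : aeval E a * aeval E B.charpoly = aeval E B.charpoly * aeval E a := by
      rw [← map_mul, ← map_mul, mul_comm]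
    rw [h4] at h3
    rw [← Matrix.mul_one S, ← h3, ← Matrix.mul_assoc, ← h2, Matrix.zero_mul]
  exact (LinearMap.injective_iff_surjective.1 hinj) Q

/-- **Theorem L, coprime case**: any `f`, `g`, any finite field. -/
theorem fac_coprime [Finite F] {n : ℕ} (A : Matrix (Fin n) (Fin n) F) (hA : A.det ≠ 0) {p q : F[X]} (hp : p.Monic)
    (hq : q.Monic) (hp0 : 0 < p.natDegree) (hq0 : 0 < q.natDegree) (hco : IsCoprime p q) (hpq : A.charpoly = p * q)
    {f g : F[X]} (hf : f.Monic) (hg : g.Monic) (hfn : f.natDegree = n) (hgn : g.natDegree = n)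
    (h0 : f.coeff 0 * g.coeff 0 = A.det) : Fac A f g := by
  obtain ⟨k, hk⟩ : ∃ k, p.natDegree = k + 1 := ⟨p.natDegree - 1, by omega⟩
  obtain ⟨r, hr⟩ : ∃ r, q.natDegree = r + 1 := ⟨q.natDegree - 1, by omega⟩
  obtain ⟨B, E, P, P', h1, h2, h3, h4, h5⟩ := Cfsg.Agent.H236.TL.exists_split A p q hp hq hk hr hco hpq
  have hn : n = (k + 1) + (r + 1) := by
    have := card_eq_of_inv h1 h2
    rwa [Fintype.card_sum, Fintype.card_fin, Fintype.card_fin, Fintype.card_fin] at this
  have hdet : A.det = B.det * E.det := by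
    rw [det_eq_sign_charpoly_coeff, det_eq_sign_charpoly_coeff B, det_eq_sign_charpoly_coeff E, h4, h5, hpq,
      mul_coeff_zero, Fintype.card_fin, Fintype.card_fin, Fintype.card_fin, hn]
    ring
  have hBE : B.det ≠ 0 ∧ E.det ≠ 0 := by
    rw [hdet] at hA
    exact ⟨left_ne_zero_of_mul hA, right_ne_zero_of_mul hA⟩
  refine Fac.transfer ?_ h1 h2 h3
  exact fac_blocks (fun Q => sylvester B E (by rw [h4, h5]; exact hco) Q) hBE.1 hBE.2 hf hg (by rw [hfn, hn])
    (by rw [hgn, hn]) (by rw [h0, hdet])

end Cfsg.Agent.H957.TL
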