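import Cfsg.Agent.H957.TL.ObsEx
import Cfsg.Agent.H957.TL.Det
import Cfsg.Agent.H957.TL.Span

/-!
# Theorem L, the block construction (helper957)

`A' = [[B, Q], [0, E]] = X Y` with `X = [[J, X₁₂], [e ε, J₂]]`, prescribed characteristic polynomials.
-/

set_option autoImplicit false
set_option linter.unusedSectionVars false

namespace Cfsg.Agent.H957.TL

open Matrix Polynomial

variable {F : Type*} [Field F]

/-- output injection -/
theorem Obs.inj {k : ℕ} {T : Matrix (Fin k) (Fin k) F} {eps : Fin k → F} (h : Obs T eps) (x : Fin k → F) :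
    Obs (T + vecMulVec x eps) eps := by
  intro v hv
  have key : ∀ i : ℕ, (T + vecMulVec x eps) ^ i *ᵥ v = T ^ i *ᵥ v := by
    intro i
    induction i with
    | zero => rw [pow_zero, pow_zero]
    | succ i ih =>
      have h1 := hv i
      rw [ih] at h1
      rw [pow_succ', ← mulVec_mulVec, ih, add_mulVec, vecMulVec_mulVec, h1, pow_succ', ← mulVec_mulVec]
      simp
  apply h
  intro i
  rw [← key]
  exact hv i

theorem Obs.ne_zero {k : ℕ} {T : Matrix (Fin (k + 1)) (Fin (k + 1)) F} {eps : Fin (k + 1) → F} (h : Obs T eps) :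
    ∃ i, eps i ≠ 0 := by
  by_contra hc
  push Not at hc
  have h1 : eps = 0 := funext hc
  have h2 := h (Pi.single 0 1) (fun i => by rw [h1, zero_dotProduct])
  have h3 := congrFun h2 0
  rw [Pi.single_eq_same] at h3
  exact one_ne_zero h3

theorem det_pen_one {k : ℕ} (T : Matrix (Fin k) (Fin k) F) : (pen 1 T).det = T.charpoly := by
  rw [Matrix.charpoly, charmatrix, pen]
  congr 1
  ext i j
  simp [Matrix.smul_apply, Matrix.one_apply, sub_eq_add_neg, Matrix.scalar_apply, Matrix.diagonal_apply]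

/-- the row for the characteristic matrix -/
theorem row_indep_one {k : ℕ} {eps : Fin k → F} {T : Matrix (Fin k) (Fin k) F} (hobs : Obs T eps) :
    LinearIndependent F (row eps 1 T) := by
  rw [Fintype.linearIndependent_iff]
  intro c hc
  have hcomb : ∀ c : Fin k → F, (C ∘ eps) ⬝ᵥ ((pen 1 T).adjugate *ᵥ (C ∘ c)) = ∑ i, c i • row eps 1 T i := by
    intro c
    rw [dotProduct_mulVec, dotProduct]
    refine Finset.sum_congr rfl fun i _ => ?_
    rw [smul_eq_C_mul, mul_comm]
    rfl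
  let v : ℕ → Fin k → F := fun i => T ^ i *ᵥ c
  let P : ℕ → Fin k → F[X] := fun N => ∑ i ∈ Finset.range N, (X : F[X]) ^ (N - 1 - i) • (C ∘ v i)
  have hPs : ∀ N, P (N + 1) = (X : F[X]) • P N + C ∘ v N := by
    intro N
    show ∑ i ∈ Finset.range (N + 1), (X : F[X]) ^ (N + 1 - 1 - i) • (C ∘ v i) = _
    rw [Finset.sum_range_succ, Nat.add_sub_cancel, Nat.sub_self, pow_zero, one_smul]
    congr 1
    show _ = (X : F[X]) • ∑ i ∈ Finset.range N, (X : F[X]) ^ (N - 1 - i) • (C ∘ v i)
    rw [Finset.smul_sum]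
    refine Finset.sum_congr rfl fun i hi => ?_
    rw [smul_smul, ← pow_succ']
    congr 2
    have := Finset.mem_range.1 hi
    omega
  have hP : ∀ N, pen 1 T *ᵥ P N = (X : F[X]) ^ N • (C ∘ c) - C ∘ v N := by
    intro N
    induction N with
    | zero =>
      show pen 1 T *ᵥ (∑ i ∈ Finset.range 0, (X : F[X]) ^ (0 - 1 - i) • (C ∘ v i)) = _
      rw [Finset.range_zero, Finset.sum_empty, mulVec_zero, pow_zero, one_smul]
      have : v 0 = c := by
        show T ^ 0 *ᵥ c = c
        rw [pow_zero, one_mulVec]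
      rw [this, sub_self]
    | succ N ih =>
      rw [hPs, mulVec_add, mulVec_smul, ih, pen_mulVec, one_mulVec]
      have h1 : T *ᵥ v N = v (N + 1) := by
        show T *ᵥ (T ^ N *ᵥ c) = T ^ (N + 1) *ᵥ c
        rw [mulVec_mulVec, ← pow_succ']
      rw [h1, smul_sub, smul_smul, ← pow_succ']
      abel
  have hs : ∀ N, (C ∘ eps) ⬝ᵥ P N = 0 := by
    intro N
    by_contra hne
    have h1 : (pen 1 T).adjugate *ᵥ (pen 1 T *ᵥ P N) = (pen 1 T).det • P N := by
      rw [mulVec_mulVec, adjugate_mul, smul_mulVec, one_mulVec]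
    rw [hP, mulVec_sub, mulVec_smul] at h1
    have h2 := congrArg (fun w => (C ∘ eps) ⬝ᵥ w) h1
    simp only [dotProduct_sub, dotProduct_smul, smul_eq_mul] at h2
    rw [hcomb, hc, mul_zero, zero_sub, hcomb, det_pen_one] at h2
    have h3 : -∑ i, v N i • row eps 1 T i ∈ degreeLT F k :=
      Submodule.neg_mem _ (Submodule.sum_mem _ fun i _ => Submodule.smul_mem _ _ (row_mem eps 1 T i))
    rw [h2, mem_degreeLT, degree_mul, charpoly_degree_eq_dim, Fintype.card_fin,
      degree_eq_natDegree hne] at h3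
    have h4 : k + ((C ∘ eps) ⬝ᵥ P N).natDegree < k := by exact_mod_cast h3
    omega
  have h0 : c = 0 := by
    apply hobs
    intro i
    have h1 := hs (i + 1)
    rw [hPs, dotProduct_add, dotProduct_smul, hs i, smul_zero, zero_add, ← RingHom.map_dotProduct] at h1
    exact C_eq_zero.1 h1
  intro i
  rw [h0]
  rfl

/-- monic polynomials of the same degree with the same second coefficient -/
theorem sub_mem {n : ℕ} {p q : F[X]} (hp : p.Monic) (hq : q.Monic) (hpn : p.natDegree = n + 1) (hqn : q.natDegree = n + 1)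
    (h : p.nextCoeff = q.nextCoeff) : p - q ∈ degreeLT F n := by
  rw [mem_degreeLT, degree_lt_iff_coeff_zero]
  intro d hd
  rw [coeff_sub]
  rcases Nat.lt_or_ge (n + 1) d with h1 | h1
  · rw [coeff_eq_zero_of_natDegree_lt (by omega), coeff_eq_zero_of_natDegree_lt (by omega), sub_zero]
  · rcases Nat.eq_or_lt_of_le h1 with h2 | h2
    · rw [h2, ← hpn, hp.coeff_natDegree, hpn, ← hqn, hq.coeff_natDegree, sub_self]
    · have h3 : d = n := by omega
      rw [nextCoeff_of_natDegree_pos (by omega), nextCoeff_of_natDegree_pos (by omega), hpn, hqn] at h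
      rw [h3]
      simpa using sub_eq_zero.2 h

section Block

variable {k r : ℕ}

/-- the matrix `X` -/
def XX (J : Matrix (Fin k) (Fin k) F) (U : Matrix (Fin k) (Fin r) F) (e : Fin r → F) (eps : Fin k → F)
    (J₂ : Matrix (Fin r) (Fin r) F) : Matrix (Fin k ⊕ Fin r) (Fin k ⊕ Fin r) F :=
  fromBlocks J U (vecMulVec e eps) J₂

/-- `adj(S) e` as a row -/
theorem adj_mulVec (J₂ E : Matrix (Fin r) (Fin r) F) (e : Fin r → F) :
    (pen J₂ E).adjugate *ᵥ (C ∘ e) = row e J₂ᵀ Eᵀ := by
  have h1 : pen J₂ᵀ Eᵀ = (pen J₂ E)ᵀ := by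
    rw [pen, pen]
    ext i j
    simp
  rw [row, h1, ← adjugate_transpose, vecMul_transpose]

/-- the double sum -/
theorem sum_eq (m : Fin k → F[X]) (n : Fin r → F[X]) (Q : Matrix (Fin k) (Fin r) F) :
    m ⬝ᵥ (Q.map C *ᵥ n) = ∑ i, ∑ j, Q i j • (m i * n j) := by
  rw [dotProduct]
  refine Finset.sum_congr rfl fun i _ => ?_
  rw [mulVec, dotProduct, Finset.mul_sum]
  refine Finset.sum_congr rfl fun j _ => ?_
  rw [smul_eq_C_mul, Matrix.map_apply]
  ring

theorem charpoly_XX (J : Matrix (Fin k) (Fin k) F) (U : Matrix (Fin k) (Fin r) F) (e : Fin r → F) (eps : Fin k → F)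
    (J₂ : Matrix (Fin r) (Fin r) F) :
    (XX J U e eps J₂).charpoly = J.charpoly * J₂.charpoly - ∑ i, ∑ j, U i j • (row eps 1 J i * row e 1 J₂ᵀ j) := by
  have h1 : charmatrix (XX J U e eps J₂) =
      fromBlocks (pen 1 J) (-(U.map C)) ((-1 : F[X]) • vecMulVec (C ∘ e) (C ∘ eps)) (pen 1 J₂) := by
    rw [XX, charmatrix_fromBlocks]
    congr 1
    · ext i j
      simp [charmatrix, pen, Matrix.one_apply, Matrix.diagonal_apply, sub_eq_add_neg]
    · ext i j
      simp [vecMulVec]
    · ext i j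
      simp [charmatrix, pen, Matrix.one_apply, Matrix.diagonal_apply, sub_eq_add_neg]
  have hne : ∀ {l : ℕ} (T : Matrix (Fin l) (Fin l) F), (pen 1 T).det ≠ 0 := by
    intro l T
    rw [det_pen_one]
    exact T.charpoly_monic.ne_zero
  rw [Matrix.charpoly, h1, det_rank1 _ _ _ _ _ _ (hne J) (hne J₂), det_pen_one, det_pen_one, adj_mulVec,
    dotProduct_mulVec, neg_mulVec, dotProduct_neg, Matrix.transpose_one, ← sum_eq]
  simp only [row]
  ring

theorem det_pen_XX (J : Matrix (Fin k) (Fin k) F) (U : Matrix (Fin k) (Fin r) F) (e : Fin r → F) (eps : Fin k → F)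
    (J₂ : Matrix (Fin r) (Fin r) F) {B : Matrix (Fin k) (Fin k) F} {E : Matrix (Fin r) (Fin r) F}
    (Q : Matrix (Fin k) (Fin r) F) (hB : B.det ≠ 0) (hE : E.det ≠ 0) :
    ((X : F[X]) • (XX J U e eps J₂).map C + (-(fromBlocks B Q 0 E)).map C).det =
      (pen J B).det * (pen J₂ E).det - X * ((row eps J B) ⬝ᵥ (((X : F[X]) • U.map C - Q.map C) *ᵥ row e J₂ᵀ Eᵀ)) := by
  have h1 : (X : F[X]) • (XX J U e eps J₂).map C + (-(fromBlocks B Q 0 E)).map C =
      fromBlocks (pen J B) ((X : F[X]) • U.map C - Q.map C) ((X : F[X]) • vecMulVec (C ∘ e) (C ∘ eps)) (pen J₂ E) := by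
    rw [XX]
    ext (i | i) (j | j) <;> simp [pen, sub_eq_add_neg, vecMulVec]
  have hne : ∀ {l : ℕ} (T S : Matrix (Fin l) (Fin l) F), S.det ≠ 0 → (pen T S).det ≠ 0 := by
    intro l T S hS h
    have h2 := det_pen_coeff T S
    rw [h, coeff_zero, det_neg] at h2
    exact mul_ne_zero (pow_ne_zero _ (neg_ne_zero.2 one_ne_zero)) hS h2.symm
  rw [h1, det_rank1 _ _ _ _ _ _ (hne J B hB) (hne J₂ E hE), adj_mulVec, dotProduct_mulVec]
  rfl

end Block

end Cfsg.Agent.H957.TL
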