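import Cfsg.Agent.H957.TL.Core

/-!
# Theorem L, the two characteristic polynomials of a block factorization (helper957)
-/

set_option autoImplicit false
set_option linter.unusedSectionVars false

namespace Cfsg.Agent.H957.TL

open Matrix Polynomial

variable {F : Type*} [Field F]

/-- `charpoly (X⁻¹ A)` from the determinant of the pencil -/
theorem charpoly_of_det {n : Type*} [Fintype n] [DecidableEq n] (M A : Matrix n n F) (hM : M.det ≠ 0) {g : F[X]}
    (h : ((X : F[X]) • M.map C + (-A).map C).det = C M.det * g) : (M⁻¹ * A).charpoly = g := by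
  have hM' : IsUnit M.det := isUnit_iff_ne_zero.2 hM
  have h1 : M.map C * charmatrix (M⁻¹ * A) = (X : F[X]) • M.map C + (-A).map C := by
    rw [charmatrix, mul_sub, sub_eq_add_neg]
    congr 1
    · ext i j : 2
      rw [Matrix.scalar_apply, Matrix.mul_diagonal, Matrix.smul_apply, smul_eq_mul, mul_comm]
    · rw [RingHom.mapMatrix_apply, ← Matrix.map_mul, ← Matrix.mul_assoc, Matrix.mul_nonsing_inv _ hM', Matrix.one_mul]
      ext i j
      simp
  have h2 := congrArg Matrix.det h1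
  rw [det_mul, h, ← RingHom.mapMatrix_apply, ← RingHom.map_det] at h2
  have h3 : (C M.det : F[X]) ≠ 0 := C_ne_zero.2 hM
  exact mul_left_cancel₀ h3 h2

section

variable {k r : ℕ}

theorem core_of {B : Matrix (Fin (k + 1)) (Fin (k + 1)) F} {E : Matrix (Fin (r + 1)) (Fin (r + 1)) F}
    (hB : B.det ≠ 0) (hE : E.det ≠ 0) {J : Matrix (Fin (k + 1)) (Fin (k + 1)) F} {eps : Fin (k + 1) → F}
    (h1 : Obs J eps) {T : Matrix (Fin (r + 1)) (Fin (r + 1)) F} {e : Fin (r + 1) → F}
    (h3 : Obs T e) {f g : F[X]} (hf : f.Monic) (hg : g.Monic)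
    (hfn : f.natDegree = (k + 1) + (r + 1)) (hgn : g.natDegree = (k + 1) + (r + 1))
    (h0 : f.coeff 0 * g.coeff 0 = B.det * E.det) :
    ∃ (x : Fin (k + 1) → F) (G : F[X]), G ∈ degreeLT F (k + r + 1) ∧
      ∀ Q : Matrix (Fin (k + 1)) (Fin (r + 1)) F,
        ∑ i, ∑ j, Q i j • (row eps (J + vecMulVec x eps) B i * row e T Eᵀ j) = G →
        ∃ M N : Matrix (Fin (k + 1) ⊕ Fin (r + 1)) (Fin (k + 1) ⊕ Fin (r + 1)) F,
          M * N = fromBlocks B Q 0 E ∧ M.charpoly = f ∧ N.charpoly = g := by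
  obtain ⟨i0, hi0⟩ := h1.ne_zero
  let x : Fin (k + 1) → F := Pi.single i0 ((eps i0)⁻¹ * (-(f.nextCoeff) - J.trace - T.trace))
  have hx : x ⬝ᵥ eps = -(f.nextCoeff) - J.trace - T.trace := by
    rw [single_dotProduct, mul_comm, ← mul_assoc, mul_inv_cancel₀ hi0, one_mul]
  let J' := J + vecMulVec x eps
  have hJ' : Obs J' eps := h1.inj x
  have htr : J'.trace = -(f.nextCoeff) - T.trace := by
    show (J + vecMulVec x eps).trace = _
    rw [trace_add, trace_vecMulVec, hx]
    ring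
  have hcm : (J'.charpoly * Tᵀ.charpoly).Monic := (charpoly_monic _).mul (charpoly_monic _)
  have hcn : (J'.charpoly * Tᵀ.charpoly).natDegree = (k + r + 1) + 1 := by
    rw [(charpoly_monic _).natDegree_mul (charpoly_monic _), charpoly_natDegree_eq_dim, charpoly_natDegree_eq_dim,
      Fintype.card_fin, Fintype.card_fin]
    ring
  have hnc : (J'.charpoly * Tᵀ.charpoly).nextCoeff = f.nextCoeff := by
    rw [(charpoly_monic _).nextCoeff_mul (charpoly_monic _)]
    have e1 := trace_eq_neg_charpoly_nextCoeff J'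
    have e2 := trace_eq_neg_charpoly_nextCoeff Tᵀ
    rw [trace_transpose] at e2
    rw [htr, e2] at e1
    linear_combination e1
  have hG1 : J'.charpoly * Tᵀ.charpoly - f ∈ degreeLT F ((k + 1) + (r + 1) - 1) := by
    have e1 : (k + 1) + (r + 1) - 1 = k + r + 1 := by omega
    rw [e1]
    exact sub_mem hcm hf hcn (by rw [hfn]; ring) hnc
  obtain ⟨U, hU⟩ := span_mul (row eps 1 J') (row e 1 T) (row_indep_one hJ') (row_mem eps 1 J') (row_indep_one h3)
    (row_mem e 1 T) (by omega) (by omega) hG1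
  let M := XX J' U e eps Tᵀ
  have hM : M.charpoly = f := by
    show (XX J' U e eps Tᵀ).charpoly = f
    rw [charpoly_XX, transpose_transpose, hU]
    ring
  have hf0 : f.coeff 0 ≠ 0 := by
    intro h
    rw [h, zero_mul] at h0
    exact mul_ne_zero hB hE h0.symm
  have hMd : M.det = (-1) ^ ((k + 1) + (r + 1)) * f.coeff 0 := by
    rw [det_eq_sign_charpoly_coeff, hM, Fintype.card_sum, Fintype.card_fin, Fintype.card_fin]
  have hMd0 : M.det ≠ 0 := by
    rw [hMd]
    exact mul_ne_zero (pow_ne_zero _ (neg_ne_zero.2 one_ne_zero)) hf0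
  let D0 : F[X] := ((X : F[X]) • M.map C + (-(fromBlocks B 0 0 E)).map C).det
  have hdet : ∀ Q : Matrix (Fin (k + 1)) (Fin (r + 1)) F,
      ((X : F[X]) • M.map C + (-(fromBlocks B Q 0 E)).map C).det =
        D0 + X * ∑ i, ∑ j, Q i j • (row eps J' B i * row e T Eᵀ j) := by
    intro Q
    show ((X : F[X]) • (XX J' U e eps Tᵀ).map C + (-(fromBlocks B Q 0 E)).map C).det =
      ((X : F[X]) • (XX J' U e eps Tᵀ).map C + (-(fromBlocks B 0 0 E)).map C).det + _
    rw [det_pen_XX _ _ _ _ _ _ hB hE, det_pen_XX _ _ _ _ _ _ hB hE, transpose_transpose, ← sum_eq, sub_mulVec,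
      sub_mulVec, dotProduct_sub, dotProduct_sub, Matrix.map_zero _ (map_zero C), zero_mulVec, dotProduct_zero]
    ring
  let R : F[X] := C M.det * g - D0
  have hR0 : R.coeff 0 = 0 := by
    have e1 : D0.coeff 0 = (-(fromBlocks B 0 0 E)).det := coeff_det_X_add_C_zero M _
    show (C M.det * g - D0).coeff 0 = 0
    rw [coeff_sub, coeff_C_mul, e1, det_neg, det_fromBlocks_zero₂₁, hMd, Fintype.card_sum, Fintype.card_fin,
      Fintype.card_fin, ← h0]
    ring
  have hRd : ∀ d, (k + 1) + (r + 1) ≤ d → R.coeff d = 0 := by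
    intro d hd
    show (C M.det * g - D0).coeff d = 0
    rw [coeff_sub, coeff_C_mul]
    rcases Nat.eq_or_lt_of_le hd with h | h
    · have e1 : D0.coeff (Fintype.card (Fin (k + 1) ⊕ Fin (r + 1))) = M.det := coeff_det_X_add_C_card M _
      rw [Fintype.card_sum, Fintype.card_fin, Fintype.card_fin, h] at e1
      rw [e1, ← h, ← hgn, hg.coeff_natDegree, mul_one, sub_self]
    · have e1 : D0.natDegree ≤ (k + 1) + (r + 1) := by
        have := natDegree_det_X_add_C_le M (-(fromBlocks B 0 0 E))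
        rwa [Fintype.card_sum, Fintype.card_fin, Fintype.card_fin] at this
      rw [coeff_eq_zero_of_natDegree_lt (by omega : g.natDegree < d),
        coeff_eq_zero_of_natDegree_lt (by omega : D0.natDegree < d), mul_zero, sub_zero]
  have hRX : X * R.divX = R := by
    have := divX_mul_X_add R
    rw [hR0, C_0, add_zero, mul_comm] at this
    exact this
  refine ⟨x, R.divX, ?_, ?_⟩
  · rw [mem_degreeLT, degree_lt_iff_coeff_zero]
    intro d hd
    rw [coeff_divX]
    exact hRd _ (by omega)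
  · intro Q hQ
    refine ⟨M, M⁻¹ * fromBlocks B Q 0 E, ?_, hM, ?_⟩
    · rw [← Matrix.mul_assoc, Matrix.mul_nonsing_inv _ (isUnit_iff_ne_zero.2 hMd0), Matrix.one_mul]
    · apply charpoly_of_det _ _ hMd0
      rw [hdet, hQ, hRX]
      show D0 + (C M.det * g - D0) = _
      ring

/-- the core of Theorem L -/
theorem core [Finite F] {B : Matrix (Fin (k + 1)) (Fin (k + 1)) F} {E : Matrix (Fin (r + 1)) (Fin (r + 1)) F}
    (hB : B.det ≠ 0) (hE : E.det ≠ 0) {f g : F[X]} (hf : f.Monic) (hg : g.Monic)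
    (hfn : f.natDegree = (k + 1) + (r + 1)) (hgn : g.natDegree = (k + 1) + (r + 1))
    (h0 : f.coeff 0 * g.coeff 0 = B.det * E.det) :
    ∃ (m : Fin (k + 1) → F[X]) (n : Fin (r + 1) → F[X]) (G : F[X]),
      LinearIndependent F m ∧ LinearIndependent F n ∧ (∀ i, m i ∈ degreeLT F (k + 1)) ∧
      (∀ i, n i ∈ degreeLT F (r + 1)) ∧ G ∈ degreeLT F (k + r + 1) ∧
      ∀ Q : Matrix (Fin (k + 1)) (Fin (r + 1)) F, ∑ i, ∑ j, Q i j • (m i * n j) = G →
        ∃ M N : Matrix (Fin (k + 1) ⊕ Fin (r + 1)) (Fin (k + 1) ⊕ Fin (r + 1)) F,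
          M * N = fromBlocks B Q 0 E ∧ M.charpoly = f ∧ N.charpoly = g := by
  have hB' : (B⁻¹).det ≠ 0 := by
    rw [det_nonsing_inv, Ring.inverse_eq_inv']
    exact inv_ne_zero hB
  have hE1 : (Eᵀ).det ≠ 0 := by rwa [det_transpose]
  have hE' : ((Eᵀ)⁻¹).det ≠ 0 := by
    rw [det_nonsing_inv, Ring.inverse_eq_inv']
    exact inv_ne_zero hE1
  obtain ⟨J, eps, h1, h2⟩ := exists_obs hB'
  obtain ⟨T, e, h3, h4⟩ := exists_obs hE'
  obtain ⟨x, G, hG, h⟩ := core_of hB hE h1 h3 hf hg hfn hgn h0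
  refine ⟨row eps (J + vecMulVec x eps) B, row e T Eᵀ, G, ?_, row_indep hE1 h4, row_mem _ _ _, row_mem _ _ _, hG, h⟩
  apply row_indep hB
  rw [mul_add, mul_vecMulVec]
  exact h2.inj _

end

end Cfsg.Agent.H957.TL
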