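import Cfsg.Agent.H957.TL.Range
import Cfsg.Agent.H171.TL.Aff

/-!
# Theorem L, an eigenvalue in `F` with `rank (A - a) ≥ 2`, `dim ker (A - a) ≥ 2` (helper957; `exists_Q` of helper171)
-/

set_option autoImplicit false
set_option linter.unusedSectionVars false

namespace Cfsg.Agent.H957.TL

open Matrix Polynomial Module

variable {F : Type*} [Field F]

theorem exists_mu [Finite F] (h3 : 3 ≤ Nat.card F) : ∃ μ : F, μ ≠ 0 ∧ μ ≠ 1 := by
  classical
  have := Fintype.ofFinite F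
  by_contra hc
  push Not at hc
  have h1 : (Finset.univ : Finset F) ⊆ {0, 1} := by
    intro x _
    rw [Finset.mem_insert, Finset.mem_singleton]
    by_cases h : x = 0
    · exact Or.inl h
    · exact Or.inr (hc x h)
  have h2 := Finset.card_le_card h1
  have h4 : ({0, 1} : Finset F).card ≤ 2 := Finset.card_le_two
  rw [Finset.card_univ, ← Nat.card_eq_fintype_card] at h2
  omega

/-- **Theorem L, case (C)**: `a` in `F`, `rank (A - a) ≥ 2`, `dim ker (A - a) ≥ 2`, `|F| ≥ 3`; arbitrary `f`, `g`. -/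
theorem fac_eig [Finite F] (h3 : 3 ≤ Nat.card F) {n : ℕ} (A : Matrix (Fin n) (Fin n) F) (hA : A.det ≠ 0) (a : F)
    (hr : 2 ≤ (A - Matrix.scalar (Fin n) a).rank) (hs : (A - Matrix.scalar (Fin n) a).rank + 2 ≤ n)
    {f g : F[X]} (hf : f.Monic) (hg : g.Monic) (hfn : f.natDegree = n) (hgn : g.natDegree = n)
    (h0 : f.coeff 0 * g.coeff 0 = A.det) : Fac A f g := by
  obtain ⟨μ, hμ0, hμ1⟩ := exists_mu h3
  obtain ⟨ρ, hρ⟩ : ∃ ρ, (A - Matrix.scalar (Fin n) a).rank = ρ + 2 :=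
    ⟨(A - Matrix.scalar (Fin n) a).rank - 2, by omega⟩
  obtain ⟨σ, hσ⟩ : ∃ σ, ρ + 2 + (σ + 2) = n := ⟨n - ρ - 4, by omega⟩
  have ha : a ≠ 0 := by
    rintro rfl
    rw [map_zero, sub_zero] at hρ
    have h1 := Matrix.rank_of_isUnit A ((Matrix.isUnit_iff_isUnit_det A).2 (isUnit_iff_ne_zero.2 hA))
    rw [Fintype.card_fin] at h1
    omega
  obtain ⟨P, hP, hY, h⟩ := range_form A a (ρ + 2) (σ + 2) hρ hσ
  have hP' := hP hA
  have hE : (Matrix.scalar (Fin (σ + 2)) a).det ≠ 0 := by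
    rw [Matrix.scalar_apply, Matrix.det_diagonal, Finset.prod_const]
    exact pow_ne_zero _ ha
  have hmem : ∀ y : Fin (ρ + 2) → F, y ᵥ* (P - Matrix.scalar (Fin (ρ + 2)) a) = 0 →
      y ∈ LinearMap.ker (Matrix.toLin' (P - Matrix.scalar (Fin (ρ + 2)) a)ᵀ) := by
    intro y hy
    rw [LinearMap.mem_ker, toLin'_apply, mulVec_transpose, hy]
  -- the determinant
  have hdet : A.det = P.det * (Matrix.scalar (Fin (σ + 2)) a).det := by
    have d1 : ∀ c : F, (X ^ ((ρ + 1 + 1) + (σ + 1 + 1)) + C c : F[X]).Monic := fun c =>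
      monic_X_pow_add_C c (by omega)
    have d2 : ∀ c : F, (X ^ ((ρ + 1 + 1) + (σ + 1 + 1)) + C c : F[X]).natDegree = (ρ + 1 + 1) + (σ + 1 + 1) :=
      fun c => natDegree_X_pow_add_C
    have d3 : ∀ c : F, (X ^ ((ρ + 1 + 1) + (σ + 1 + 1)) + C c : F[X]).coeff 0 = c := fun c => by
      rw [coeff_add, coeff_X_pow, coeff_C_zero, if_neg (by omega), zero_add]
    obtain ⟨m, n', G, hm, hn, hm', hn', hG, -⟩ := core (k := ρ + 1) (r := σ + 1) hP' hE
      (d1 (P.det * (Matrix.scalar (Fin (σ + 2)) a).det)) (d1 1) (d2 _) (d2 _) (by rw [d3, d3, mul_one])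
    obtain ⟨Q, hQ, hQy⟩ := Cfsg.Agent.H171.TL.exists_Q hμ0 hμ1 m n' hm hm' hn hn' _ hY hG
    obtain ⟨C1, C2, h1, h2, h3⟩ := h Q (fun y hy hyQ => hQy y (hmem y hy) hyQ)
    have h4 : C1 * (C2 * A * C1) * C2 = A := by
      have e2 : C1 * (C2 * A * C1) * C2 = (C1 * C2) * A * (C1 * C2) := by
        simp only [Matrix.mul_assoc]
      rw [e2, h1, Matrix.one_mul, Matrix.mul_one]
    have h5 := charpoly_conj h1 h2 (C2 * A * C1)
    rw [h4] at h5
    rw [det_eq_sign_charpoly_coeff, h5, h3, ← det_fromBlocks_zero₂₁ P Q (Matrix.scalar (Fin (σ + 2)) a),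
      det_eq_sign_charpoly_coeff (fromBlocks P Q 0 (Matrix.scalar (Fin (σ + 2)) a)), card_eq_of_inv h1 h2]
  obtain ⟨m, n', G, hm, hn, hm', hn', hG, hfin⟩ := core (k := ρ + 1) (r := σ + 1) hP' hE hf hg
    (by rw [hfn, ← hσ]) (by rw [hgn, ← hσ]) (by rw [h0, hdet])
  obtain ⟨Q, hQ, hQy⟩ := Cfsg.Agent.H171.TL.exists_Q hμ0 hμ1 m n' hm hm' hn hn' _ hY hG
  obtain ⟨C1, C2, h1, h2, h3⟩ := h Q (fun y hy hyQ => hQy y (hmem y hy) hyQ)
  exact Fac.transfer (hfin Q hQ) h1 h2 h3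

end Cfsg.Agent.H957.TL
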