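import Cfsg.Agent.H324.TL.Main
import Cfsg.Agent.H957.TL.FindSq

/-!
# Theorem L: `charpoly A = p ^ m`, `deg p ≥ 2`, `p(A) ≠ 0` (helper957, on helper324's `fac_of_block`)
-/

set_option autoImplicit false
set_option linter.unusedSectionVars false

namespace Cfsg.Agent.H957.TL

open Matrix Polynomial Module

variable {F : Type*} [Field F]

/-- **Theorem L, homogeneous nonsemisimple case**; only `n = 4`, `deg p = 2` is left as a hypothesis. -/
theorem fac_hom [Finite F] (h3 : 3 ≤ Nat.card F) {n : ℕ} (A : Matrix (Fin n) (Fin n) F) (hA : A.det ≠ 0)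
    (p : F[X]) (hp : Irreducible p) (hp1 : p.Monic) (hd : 2 ≤ p.natDegree) {m : ℕ} (hm : A.charpoly = p ^ m)
    (hne : aeval A p ≠ 0) {f g : F[X]} (hf : f.Monic) (hg : g.Monic) (hfn : f.natDegree = n) (hgn : g.natDegree = n)
    (h0 : f.coeff 0 * g.coeff 0 = A.det) (four : n = 4 → p.natDegree = 2 → Fac A f g) : Fac A f g := by
  have hnm : n = m * p.natDegree := by
    have := congrArg Polynomial.natDegree hm
    rwa [hp1.natDegree_pow, Matrix.charpoly_natDegree_eq_dim, Fintype.card_fin] at this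
  by_cases hn : n = 2 * p.natDegree
  · rcases Nat.lt_or_ge 2 p.natDegree with h | h
    · have hm2 : m = 2 := by
        rw [hnm] at hn
        exact Nat.eq_of_mul_eq_mul_right (by omega) hn
      have hdvd : p ∣ A.charpoly := by
        rw [hm, hm2]
        exact dvd_pow_self p (by norm_num)
      exact Cfsg.Agent.H324.TL.prod_deg_three (by omega) A hA p hp hp1 h hdvd (by omega) hf hg hfn hgn h0
    · have h2 : p.natDegree = 2 := le_antisymm h hd
      exact four (by rw [hn, h2]) h2
  · obtain ⟨a, ha0, ha1⟩ := Cfsg.Agent.H324.TL.exists_a (F := F) (by omega)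
    obtain ⟨s, A1, A2, Ps, P, P', hs, hn', h1, h2, h3, h4, h5⟩ := exists_block_all A p hp hp1 hm hne hn
    exact Cfsg.Agent.H324.TL.fac_of_block ha0 ha1 hA hp hd hs hn' h1 h2 h3 h4 (Or.inr h5) hf hg hfn hgn h0

end Cfsg.Agent.H957.TL
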