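import Cfsg.Agent.H957.TL.Obs

/-!
# Two observable pairs (helper957, Theorem L)
-/

set_option autoImplicit false
set_option linter.unusedSectionVars false

namespace Cfsg.Agent.H957.TL

open Matrix Polynomial

variable {F : Type*} [Field F] {m : ℕ}

/-- add a zero column on the left -/
def toSq (T : Matrix (Fin (m + 1)) (Fin m) F) : Matrix (Fin (m + 1)) (Fin (m + 1)) F :=
  fun i => Fin.cons 0 (T i)

theorem mul_toSq (C : Matrix (Fin (m + 1)) (Fin (m + 1)) F) (T : Matrix (Fin (m + 1)) (Fin m) F) :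
    C * toSq T = toSq (C * T) := by
  ext i j
  refine Fin.cases ?_ (fun j => ?_) j
  · simp [toSq, Matrix.mul_apply]
  · simp [toSq, Matrix.mul_apply]

/-- `e₀` -/
def e0 : Fin (m + 1) → F := Pi.single 0 1

theorem cons_vecMul (z : Fin m → F) (T : Matrix (Fin (m + 1)) (Fin m) F) :
    (Fin.cons 0 z : Fin (m + 1) → F) ᵥ* toSq T = Fin.cons 0 (z ᵥ* (Matrix.of fun i => T i.succ)) := by
  funext j
  refine Fin.cases ?_ (fun j => ?_) j
  · simp [toSq, vecMul, dotProduct]
  · rw [vecMul, dotProduct, Fin.sum_univ_succ]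
    simp [toSq, vecMul, dotProduct]

theorem e0_vecMul (T : Matrix (Fin (m + 1)) (Fin m) F) : e0 ᵥ* toSq T = Fin.cons 0 (T 0) := by
  rw [e0, single_one_vecMul]
  rfl

/-- observable pairs have independent columns -/
theorem indep_of_obs {T : Matrix (Fin (m + 1)) (Fin m) F} (h : Obs (toSq T) e0) :
    LinearIndependent F (fun (j : Fin m) (i : Fin (m + 1)) => T i j) := by
  rw [Fintype.linearIndependent_iff]
  intro c hc
  have h1 : toSq T *ᵥ (Fin.cons 0 c : Fin (m + 1) → F) = 0 := by
    funext i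
    rw [mulVec, dotProduct, Fin.sum_univ_succ]
    have h2 := congrFun hc i
    simp only [Finset.sum_apply, Pi.smul_apply, smul_eq_mul, Pi.zero_apply] at h2
    simp only [toSq, Fin.cons_zero, Fin.cons_succ, zero_mul, zero_add, Pi.zero_apply]
    rw [← h2]
    exact Finset.sum_congr rfl fun _ _ => mul_comm _ _
  have h2 := h (Fin.cons 0 c) (by
    intro i
    rcases i with _ | i
    · rw [pow_zero, one_mulVec, e0, single_one_dotProduct, Fin.cons_zero]
    · rw [pow_succ, ← mulVec_mulVec, h1, mulVec_zero, dotProduct_zero])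
  intro i
  have h3 := congrFun h2 i.succ
  rwa [Fin.cons_succ] at h3

/-- the rows `b₁, …, b_m, w` -/
def rows (b : Matrix (Fin m) (Fin m) F) (w : Fin m → F) : Fin (m + 1) → Fin m → F := Fin.snoc (fun i j => b i j) w

/-- the rows `b₂, …, b_m, w` -/
def rowsS (b : Matrix (Fin m) (Fin m) F) (w : Fin m → F) : Matrix (Fin m) (Fin m) F :=
  Matrix.of fun i => rows b w i.succ

theorem rows_castSucc (b : Matrix (Fin m) (Fin m) F) (w : Fin m → F) (l : Fin m) :
    rows b w l.castSucc = b l := Fin.snoc_castSucc (α := fun _ => Fin m → F) ..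

theorem rows_last (b : Matrix (Fin m) (Fin m) F) (w : Fin m → F) :
    rows b w (Fin.last m) = w := Fin.snoc_last (α := fun _ => Fin m → F) ..

/-- the lower part -/
def low (T : Matrix (Fin (m + 1)) (Fin m) F) : Matrix (Fin m) (Fin m) F := Matrix.of fun i => T i.succ

/-- the matrix with the chain `e₀, b₁, …, b_m, w` -/
noncomputable def mk (b : GL (Fin m) F) (w : Fin m → F) : Matrix (Fin (m + 1)) (Fin m) F :=
  Matrix.of (Fin.cons (rows (b : Matrix (Fin m) (Fin m) F) w 0)
    (fun i => (((b⁻¹ : GL (Fin m) F) : Matrix (Fin m) (Fin m) F) * rowsS (b : Matrix (Fin m) (Fin m) F) w) i))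

theorem mk_zero (b : GL (Fin m) F) (w : Fin m → F) : mk b w 0 = rows (b : Matrix (Fin m) (Fin m) F) w 0 := rfl

theorem low_mk (b : GL (Fin m) F) (w : Fin m → F) :
    low (mk b w) = ((b⁻¹ : GL (Fin m) F) : Matrix (Fin m) (Fin m) F) * rowsS (b : Matrix (Fin m) (Fin m) F) w := by
  ext i j
  rfl

theorem vecMul_mk (b : GL (Fin m) F) (w : Fin m → F) (l : Fin m) :
    (rows (b : Matrix (Fin m) (Fin m) F) w l.castSucc) ᵥ* low (mk b w) =
      rows (b : Matrix (Fin m) (Fin m) F) w l.succ := by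
  rw [rows_castSucc, low_mk]
  have h3 : (b : Matrix (Fin m) (Fin m) F) l ᵥ* (((b⁻¹ : GL (Fin m) F) : Matrix (Fin m) (Fin m) F) *
      rowsS (b : Matrix (Fin m) (Fin m) F) w) =
      ((b : Matrix (Fin m) (Fin m) F) * (((b⁻¹ : GL (Fin m) F) : Matrix (Fin m) (Fin m) F) *
      rowsS (b : Matrix (Fin m) (Fin m) F) w)) l := rfl
  rw [h3, ← Matrix.mul_assoc, ← Units.val_mul, mul_inv_cancel, Units.val_one, Matrix.one_mul]
  rfl

theorem obs_mk (b : GL (Fin m) F) (w : Fin m → F) : Obs (toSq (mk b w)) e0 := by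
  have key : ∀ l (hl : l < m + 1), e0 ᵥ* (toSq (mk b w)) ^ (l + 1) =
      Fin.cons 0 (rows (b : Matrix (Fin m) (Fin m) F) w ⟨l, hl⟩) := by
    intro l
    induction l with
    | zero =>
      intro hl
      rw [zero_add, pow_one, e0_vecMul, mk_zero]
      rfl
    | succ l ih =>
      intro hl
      rw [pow_succ, ← vecMul_vecMul, ih (by omega), cons_vecMul]
      have h1 := vecMul_mk b w ⟨l, by omega⟩
      exact congrArg (fun z => (Fin.cons 0 z : Fin (m + 1) → F)) h1
  intro v hv
  have h0 : v 0 = 0 := by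
    have := hv 0
    rwa [pow_zero, one_mulVec, e0, single_one_dotProduct] at this
  have h1 : (b : Matrix (Fin m) (Fin m) F) *ᵥ (fun i => v i.succ) = 0 := by
    funext l
    have h2 := hv (l + 1)
    rw [dotProduct_mulVec, key l (by omega)] at h2
    have h3 : rows (b : Matrix (Fin m) (Fin m) F) w ⟨l, by omega⟩ = (b : Matrix (Fin m) (Fin m) F) l :=
      rows_castSucc _ _ l
    rw [h3, dotProduct, Fin.sum_univ_succ, Fin.cons_zero, zero_mul, zero_add] at h2
    simpa [mulVec, dotProduct] using h2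
  have h2 : (fun i : Fin m => v i.succ) = 0 := by
    have h3 := congrArg (fun z => ((b⁻¹ : GL (Fin m) F) : Matrix (Fin m) (Fin m) F) *ᵥ z) h1
    simpa only [mulVec_mulVec, ← Units.val_mul, inv_mul_cancel, Units.val_one, one_mulVec, mulVec_zero] using h3
  funext i
  refine Fin.cases h0 (fun j => ?_) i
  exact congrFun h2 j

theorem mk_injective : Function.Injective (fun p : GL (Fin m) F × (Fin m → F) => mk p.1 p.2) := by
  rintro ⟨b, w⟩ ⟨b', w'⟩ h
  have h : mk b w = mk b' w' := h
  have key : ∀ l (hl : l < m + 1), rows (b : Matrix (Fin m) (Fin m) F) w ⟨l, hl⟩ =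
      rows (b' : Matrix (Fin m) (Fin m) F) w' ⟨l, hl⟩ := by
    intro l
    induction l with
    | zero =>
      intro hl
      have h1 := congrArg (fun T : Matrix (Fin (m + 1)) (Fin m) F => T 0) h
      exact h1
    | succ l ih =>
      intro hl
      have h1 := vecMul_mk b w ⟨l, by omega⟩
      have h2 := vecMul_mk b' w' ⟨l, by omega⟩
      have h3 : rows (b : Matrix (Fin m) (Fin m) F) w ⟨l + 1, hl⟩ =
          rows (b : Matrix (Fin m) (Fin m) F) w (⟨l, by omega⟩ : Fin m).succ := rfl
      have h4 : rows (b' : Matrix (Fin m) (Fin m) F) w' ⟨l + 1, hl⟩ =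
          rows (b' : Matrix (Fin m) (Fin m) F) w' (⟨l, by omega⟩ : Fin m).succ := rfl
      have h5 : rows (b : Matrix (Fin m) (Fin m) F) w (⟨l, by omega⟩ : Fin m).castSucc =
          rows (b' : Matrix (Fin m) (Fin m) F) w' (⟨l, by omega⟩ : Fin m).castSucc := ih (by omega)
      rw [h3, h4, ← h1, ← h2, h5, h]
  have hb : (b : Matrix (Fin m) (Fin m) F) = b' := by
    ext l j
    rw [← rows_castSucc (b : Matrix (Fin m) (Fin m) F) w l, ← rows_castSucc (b' : Matrix (Fin m) (Fin m) F) w' l]
    exact congrFun (key l (by omega)) j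
  have hw : w = w' := by
    rw [← rows_last (b : Matrix (Fin m) (Fin m) F) w, ← rows_last (b' : Matrix (Fin m) (Fin m) F) w']
    exact key m (by omega)
  exact Prod.ext (Units.ext hb) hw

/-- **two observable pairs**, all finite fields -/
theorem exists_obs [Finite F] {C : Matrix (Fin (m + 1)) (Fin (m + 1)) F} (hC : C.det ≠ 0) :
    ∃ (T : Matrix (Fin (m + 1)) (Fin (m + 1)) F) (eps : Fin (m + 1) → F), Obs T eps ∧ Obs (C * T) eps := by
  classical
  have := Fintype.ofFinite F
  by_contra hcon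
  push Not at hcon
  have hCu : IsUnit C.det := isUnit_iff_ne_zero.2 hC
  let 𝒯 : Set (Matrix (Fin (m + 1)) (Fin m) F) := {T | Obs (toSq T) e0}
  let 𝒮 : Set (Matrix (Fin (m + 1)) (Fin m) F) := {T | LinearIndependent F (fun (j : Fin m) (i : Fin (m + 1)) => T i j)}
  have h1 : Disjoint 𝒯 ((fun T => C * T) '' 𝒯) := by
    rw [Set.disjoint_left]
    rintro _ hT ⟨T, hT2, rfl⟩
    have hT' : Obs (toSq (C * T)) e0 := hT
    rw [← mul_toSq] at hT'
    exact hcon _ _ hT2 hT'
  have h2 : 𝒯 ∪ ((fun T => C * T) '' 𝒯) ⊆ 𝒮 := by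
    rintro _ (hT | ⟨T, hT, rfl⟩)
    · exact indep_of_obs hT
    · have h3 := indep_of_obs hT
      show LinearIndependent F (fun (j : Fin m) (i : Fin (m + 1)) => (C * T) i j)
      have h4 : (fun (j : Fin m) (i : Fin (m + 1)) => (C * T) i j) =
          C.mulVecLin ∘ (fun (j : Fin m) (i : Fin (m + 1)) => T i j) := by
        funext j i
        simp [Matrix.mul_apply, mulVec, dotProduct]
      rw [h4]
      refine h3.map' _ ?_
      rw [LinearMap.ker_eq_bot]
      exact (mulVec_injective_iff_isUnit.2 ((isUnit_iff_isUnit_det C).2 hCu))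
  have h3 := Set.ncard_le_ncard h2 (Set.toFinite _)
  have hinj : Function.Injective (fun T : Matrix (Fin (m + 1)) (Fin m) F => C * T) := by
    intro T T' h
    have h' : C * T = C * T' := h
    have h5 := congrArg (fun z => C⁻¹ * z) h'
    simpa only [← Matrix.mul_assoc, nonsing_inv_mul _ hCu, Matrix.one_mul] using h5
  rw [Set.ncard_union_eq h1 (Set.toFinite _) (Set.toFinite _), Set.ncard_image_of_injective _ hinj] at h3
  have h4 : Nat.card (GL (Fin m) F × (Fin m → F)) ≤ 𝒯.ncard := by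
    have h5 : Set.range (fun p : GL (Fin m) F × (Fin m → F) => mk p.1 p.2) ⊆ 𝒯 := by
      rintro _ ⟨p, rfl⟩
      exact obs_mk p.1 p.2
    have h6 := Set.ncard_le_ncard h5 (Set.toFinite _)
    rwa [← Set.image_univ, Set.ncard_image_of_injective _ mk_injective, Set.ncard_univ] at h6
  have h5 : 𝒮.ncard = ∏ i : Fin m, (Fintype.card F ^ (m + 1) - Fintype.card F ^ (i : ℕ)) := by
    have h6 := card_linearIndependent (K := F) (V := Fin (m + 1) → F) (k := m) (by
      rw [Module.finrank_fin_fun]; omega)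
    rw [Module.finrank_fin_fun] at h6
    rw [← h6]
    exact Nat.card_congr (Equiv.subtypeEquiv
      { toFun := fun T j i => T i j
        invFun := fun s => Matrix.of fun i j => s j i
        left_inv := fun _ => rfl
        right_inv := fun _ => rfl } (fun T => Iff.rfl))
  have h6 : Nat.card (GL (Fin m) F × (Fin m → F)) =
      ∏ i : Fin m, (Fintype.card F ^ (m + 1) - Fintype.card F ^ ((i : ℕ) + 1)) := by
    rw [Nat.card_prod, card_GL_field, Nat.card_eq_fintype_card (α := Fin m → F), Fintype.card_fun, Fintype.card_fin]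
    calc (∏ i : Fin m, (Fintype.card F ^ m - Fintype.card F ^ (i : ℕ))) * Fintype.card F ^ m
        = (∏ i : Fin m, (Fintype.card F ^ m - Fintype.card F ^ (i : ℕ))) * ∏ _i : Fin m, Fintype.card F := by
          rw [Fin.prod_const]
      _ = _ := by
          rw [← Finset.prod_mul_distrib]
          refine Finset.prod_congr rfl fun i _ => ?_
          rw [Nat.sub_mul, ← pow_succ, ← pow_succ]
  have hq : 2 ≤ Fintype.card F := Fintype.one_lt_card
  generalize Fintype.card F = q at h5 h6 hq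
  rw [h6] at h4
  rw [h5] at h3
  clear h5 h6
  rw [Fin.prod_univ_eq_prod_range (fun i => q ^ (m + 1) - q ^ (i + 1)) m] at h4
  rw [Fin.prod_univ_eq_prod_range (fun i => q ^ (m + 1) - q ^ i) m] at h3
  rcases m with _ | m
  · simp at h3 h4
    omega
  · rw [Finset.prod_range_succ] at h4
    rw [Finset.prod_range_succ'] at h3
    have hpos : 0 < ∏ i ∈ Finset.range m, (q ^ (m + 1 + 1) - q ^ (i + 1)) := by
      apply Finset.prod_pos
      intro i hi
      have h7 : q ^ (i + 1) < q ^ (m + 1 + 1) := Nat.pow_lt_pow_right (by omega) (by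
        have := Finset.mem_range.1 hi
        omega)
      omega
    have h7 : 2 * (q ^ (m + 1 + 1) - q ^ (m + 1)) ≤ q ^ (m + 1 + 1) - q ^ 0 := by
      have h8 : (∏ i ∈ Finset.range m, (q ^ (m + 1 + 1) - q ^ (i + 1))) * (2 * (q ^ (m + 1 + 1) - q ^ (m + 1))) ≤
          (∏ i ∈ Finset.range m, (q ^ (m + 1 + 1) - q ^ (i + 1))) * (q ^ (m + 1 + 1) - q ^ 0) := by
        calc _ = 2 * ((∏ i ∈ Finset.range m, (q ^ (m + 1 + 1) - q ^ (i + 1))) * (q ^ (m + 1 + 1) - q ^ (m + 1))) := by
              ring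
          _ ≤ _ := by
              rw [two_mul]
              exact (Nat.add_le_add h4 h4).trans h3
      exact Nat.le_of_mul_le_mul_left h8 hpos
    have h8 : 2 * q ^ (m + 1) ≤ q ^ (m + 1 + 1) := by
      rw [pow_succ q (m + 1), mul_comm]
      exact Nat.mul_le_mul le_rfl hq
    rw [pow_zero] at h7
    have h9 : 1 ≤ q ^ (m + 1) := Nat.one_le_pow _ _ (by omega)
    omega

end Cfsg.Agent.H957.TL
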