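import Cfsg.Agent.H957.TL.Glue
import Cfsg.Agent.H950.TL.Sim

/-!
# Theorem L, block form of `A` along the range of `A - a` (helper957)
-/

set_option autoImplicit false
set_option linter.unusedSectionVars false

namespace Cfsg.Agent.H957.TL

open Matrix Polynomial Module

variable {F : Type*} [Field F]

/-- `A` is similar to `[[P, Q], [0, a]]` for EVERY `Q` nondegenerate on the left kernel of `P - a`. -/
theorem range_form {n : ℕ} (A : Matrix (Fin n) (Fin n) F) (a : F) (r s : ℕ)
    (hr : (A - Matrix.scalar (Fin n) a).rank = r) (hs : r + s = n) :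
    ∃ P : Matrix (Fin r) (Fin r) F, (A.det ≠ 0 → P.det ≠ 0) ∧
      finrank F (LinearMap.ker (Matrix.toLin' (P - Matrix.scalar (Fin r) a)ᵀ)) ≤ s ∧
      ∀ Q : Matrix (Fin r) (Fin s) F,
        (∀ y : Fin r → F, y ᵥ* (P - Matrix.scalar (Fin r) a) = 0 → y ᵥ* Q = 0 → y = 0) →
        ∃ (C : Matrix (Fin n) (Fin r ⊕ Fin s) F) (C' : Matrix (Fin r ⊕ Fin s) (Fin n) F),
          C * C' = 1 ∧ C' * C = 1 ∧ C' * A * C = fromBlocks P Q 0 (Matrix.scalar (Fin s) a) := by
  classical
  obtain ⟨D, hD⟩ : ∃ D : Module.End F (Fin n → F), D = Matrix.toLin' (A - Matrix.scalar (Fin n) a) := ⟨_, rfl⟩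
  have hDr : finrank F (LinearMap.range D) = r := by
    rw [← hr, Matrix.rank, hD]
    rfl
  let b : Basis (Fin r) F (LinearMap.range D) := Module.finBasisOfFinrankEq F _ hDr
  let DR : Module.End F (LinearMap.range D) := D.restrict (fun v _ => LinearMap.mem_range_self D v)
  obtain ⟨P0, hP0⟩ : ∃ P0 : Matrix (Fin r) (Fin r) F, P0 = LinearMap.toMatrix b b DR := ⟨_, rfl⟩
  have hP0v : ∀ x : LinearMap.range D, P0 *ᵥ b.equivFun x = b.equivFun ⟨D x, LinearMap.mem_range_self D _⟩ := by
    intro x
    have := LinearMap.toMatrix_mulVec_repr b b DR x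
    rw [hP0]
    exact this
  refine ⟨P0 + Matrix.scalar (Fin r) a, ?_, ?_, ?_⟩
  · intro hA hP
    obtain ⟨v, hv0, hv⟩ := Matrix.exists_mulVec_eq_zero_iff.2 hP
    obtain ⟨x, rfl⟩ := b.equivFun.surjective v
    rw [add_mulVec, hP0v] at hv
    have h1 : b.equivFun (⟨D x, LinearMap.mem_range_self D _⟩ + a • x) = 0 := by
      rw [map_add, map_smul, ← hv]
      congr 1
      ext i
      simp [Matrix.scalar_apply, Matrix.mulVec_diagonal]
    have h2 : (⟨D x, LinearMap.mem_range_self D _⟩ + a • x : LinearMap.range D) = 0 :=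
      (LinearEquiv.map_eq_zero_iff _).1 h1
    have h3 : D x + a • (x : Fin n → F) = 0 := congrArg Subtype.val h2
    have h4 : A *ᵥ (x : Fin n → F) = 0 := by
      have hDx : D (x : Fin n → F) = (A - Matrix.scalar (Fin n) a) *ᵥ (x : Fin n → F) := LinearMap.congr_fun hD _
      rw [hDx, sub_mulVec] at h3
      rw [← h3]
      ext i
      simp [Matrix.scalar_apply, Matrix.mulVec_diagonal]
    have h5 : (x : Fin n → F) ≠ 0 := by
      intro h
      apply hv0
      have : x = 0 := Subtype.ext h
      rw [this, map_zero]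
    exact hA (Matrix.exists_mulVec_eq_zero_iff.1 ⟨_, h5, h4⟩)
  · rw [add_sub_cancel_right]
    have h1 := LinearMap.finrank_range_add_finrank_ker (Matrix.toLin' P0ᵀ)
    have h2 := LinearMap.finrank_range_add_finrank_ker DR
    have h3 : finrank F (LinearMap.range (Matrix.toLin' P0ᵀ)) = finrank F (LinearMap.range DR) := by
      have e1 : finrank F (LinearMap.range (Matrix.toLin' P0ᵀ)) = P0ᵀ.rank := rfl
      rw [e1, Matrix.rank_transpose, Matrix.rank_eq_finrank_range_toLin P0 b b, hP0, Matrix.toLin_toMatrix]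
    have h4 := LinearMap.finrank_range_add_finrank_ker D
    have h5 : finrank F (LinearMap.ker DR) ≤ finrank F (LinearMap.ker D) := by
      let g : LinearMap.ker DR →ₗ[F] LinearMap.ker D :=
        LinearMap.codRestrict _ ((LinearMap.range D).subtype ∘ₗ (LinearMap.ker DR).subtype) (by
          intro x
          rw [LinearMap.mem_ker]
          exact congrArg Subtype.val (LinearMap.mem_ker.1 x.2))
      refine LinearMap.finrank_le_finrank_of_injective (f := g) ?_
      intro x y hxy
      have h1 : ((g x : LinearMap.ker D) : Fin n → F) = g y := by rw [hxy]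
      exact Subtype.ext (Subtype.ext h1)
    rw [finrank_fin_fun] at h1 h4
    rw [h3] at h1
    omega
  · intro Q hQ
    rw [add_sub_cancel_right] at hQ
    obtain ⟨A', hA'⟩ : ∃ A' : Matrix (Fin r ⊕ Fin s) (Fin r ⊕ Fin s) F,
      A' = fromBlocks (P0 + Matrix.scalar (Fin r) a) Q 0 (Matrix.scalar (Fin s) a) := ⟨_, rfl⟩
    have hA'2 : A' - Matrix.scalar _ a = fromBlocks P0 Q 0 0 := by
      rw [hA']
      ext (i | i) (j | j) <;> simp [Matrix.scalar_apply, Matrix.diagonal_apply]
    obtain ⟨D', hD'⟩ : ∃ D' : Module.End F (Fin r ⊕ Fin s → F), D' = Matrix.toLin' (A' - Matrix.scalar _ a) := ⟨_, rfl⟩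
    let ι : (Fin r → F) →ₗ[F] (Fin r ⊕ Fin s → F) :=
      { toFun := fun u => Sum.elim u 0
        map_add' := fun u v => by
          ext (i | i) <;> simp
        map_smul' := fun c u => by
          ext (i | i) <;> simp }
    have hι : Function.Injective ι := by
      intro u v huv
      funext i
      exact congrFun huv (Sum.inl i)
    have hD'v : ∀ (u : Fin r → F) (w : Fin s → F), D' (Sum.elim u w) = ι (P0 *ᵥ u + Q *ᵥ w) := by
      intro u w
      rw [hD', hA'2, toLin'_apply, fromBlocks_mulVec]
      show _ = Sum.elim (P0 *ᵥ u + Q *ᵥ w) 0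
      simp [Function.comp_def]
    have hrange : LinearMap.range ι = LinearMap.range D' := by
      apply le_antisymm
      · rintro _ ⟨u, rfl⟩
        -- surjectivity of `[P0 | Q]`
        have hsurj : Function.Surjective (fun p : (Fin r → F) × (Fin s → F) => P0 *ᵥ p.1 + Q *ᵥ p.2) := by
          let Φ : ((Fin r → F) × (Fin s → F)) →ₗ[F] (Fin r → F) :=
            (Matrix.mulVecLin P0).coprod (Matrix.mulVecLin Q)
          have hΦ : LinearMap.range Φ = ⊤ := by
            by_contra hne
            obtain ⟨φ, hφ0, hφ⟩ := Submodule.exists_le_ker_of_lt_top _ (lt_top_iff_ne_top.2 hne)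
            let y : Fin r → F := fun i => φ (Pi.single i 1)
            have hy : ∀ v, φ v = y ⬝ᵥ v := by
              intro v
              rw [dotProduct]
              conv_lhs => rw [pi_eq_sum_univ' v, map_sum]
              refine Finset.sum_congr rfl fun i _ => ?_
              rw [map_smul, smul_eq_mul, mul_comm]
            have h1 : y ᵥ* P0 = 0 := by
              have : ∀ v, (y ᵥ* P0) ⬝ᵥ v = 0 := by
                intro v
                rw [← dotProduct_mulVec, ← hy]
                have := hφ (LinearMap.mem_range_self Φ (v, 0))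
                rw [LinearMap.mem_ker] at this
                simpa [Φ] using this
              exact dotProduct_eq_zero _ this
            have h2 : y ᵥ* Q = 0 := by
              have : ∀ v, (y ᵥ* Q) ⬝ᵥ v = 0 := by
                intro v
                rw [← dotProduct_mulVec, ← hy]
                have := hφ (LinearMap.mem_range_self Φ (0, v))
                rw [LinearMap.mem_ker] at this
                simpa [Φ] using this
              exact dotProduct_eq_zero _ this
            have h3 := hQ y h1 h2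
            apply hφ0
            ext v
            rw [LinearMap.comp_apply, hy, h3, zero_dotProduct]
            rfl
          intro u
          have : u ∈ LinearMap.range Φ := by rw [hΦ]; trivial
          obtain ⟨p, hp⟩ := this
          exact ⟨p, hp⟩
        obtain ⟨⟨v, w⟩, hvw⟩ := hsurj u
        refine ⟨Sum.elim v w, ?_⟩
        rw [hD'v]
        exact congrArg ι hvw
      · rintro _ ⟨z, rfl⟩
        have hz : z = Sum.elim (z ∘ Sum.inl) (z ∘ Sum.inr) := (Sum.elim_comp_inl_inr z).symm
        rw [hz, hD'v]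
        exact LinearMap.mem_range_self ι _
    let e : LinearMap.range D ≃ₗ[F] LinearMap.range D' :=
      b.equivFun.trans ((LinearEquiv.ofInjective ι hι).trans (LinearEquiv.ofEq _ _ hrange))
    have hev : ∀ x, ((e x : LinearMap.range D') : Fin r ⊕ Fin s → F) = ι (b.equivFun x) := fun x => rfl
    obtain ⟨E, hE⟩ := Cfsg.Agent.H950.TL.similar_aux (D := D) (D' := D')
      (by rw [finrank_fin_fun, finrank_fintype_fun_eq_card, Fintype.card_sum, Fintype.card_fin, Fintype.card_fin, hs]) e (by
        intro x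
        rw [hev, hev]
        have h1 : ι (b.equivFun x) = Sum.elim (b.equivFun x) 0 := rfl
        rw [h1, hD'v, hP0v, mulVec_zero, add_zero])
    have c1 : LinearMap.toMatrix' (E : (Fin n → F) →ₗ[F] (Fin r ⊕ Fin s → F)) *
        LinearMap.toMatrix' (E.symm : (Fin r ⊕ Fin s → F) →ₗ[F] (Fin n → F)) = 1 := by
      rw [← LinearMap.toMatrix'_comp, LinearEquiv.comp_symm, LinearMap.toMatrix'_id]
    have c2 : LinearMap.toMatrix' (E.symm : (Fin r ⊕ Fin s → F) →ₗ[F] (Fin n → F)) *
        LinearMap.toMatrix' (E : (Fin n → F) →ₗ[F] (Fin r ⊕ Fin s → F)) = 1 := by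
      rw [← LinearMap.toMatrix'_comp, LinearEquiv.symm_comp, LinearMap.toMatrix'_id]
    refine ⟨_, _, c2, c1, ?_⟩
    have h1 : (E : (Fin n → F) →ₗ[F] (Fin r ⊕ Fin s → F)) ∘ₗ D = D' ∘ₗ (E : (Fin n → F) →ₗ[F] (Fin r ⊕ Fin s → F)) :=
      LinearMap.ext hE
    have h2 := congrArg LinearMap.toMatrix' h1
    rw [LinearMap.toMatrix'_comp, LinearMap.toMatrix'_comp, hD, hD', LinearMap.toMatrix'_toLin',
      LinearMap.toMatrix'_toLin', Matrix.mul_sub, Matrix.sub_mul] at h2
    have h3 : LinearMap.toMatrix' (E : (Fin n → F) →ₗ[F] (Fin r ⊕ Fin s → F)) * Matrix.scalar (Fin n) a =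
        Matrix.scalar (Fin r ⊕ Fin s) a * LinearMap.toMatrix' (E : (Fin n → F) →ₗ[F] (Fin r ⊕ Fin s → F)) := by
      ext i j
      rw [Matrix.scalar_apply, Matrix.scalar_apply, Matrix.mul_diagonal, Matrix.diagonal_mul, mul_comm]
    rw [h3] at h2
    have h4 := sub_left_injective h2
    rw [h4, Matrix.mul_assoc, c1, Matrix.mul_one, hA']

end Cfsg.Agent.H957.TL
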